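import Cfsg.Agent.Lib.MaxClass.Degree

/-!
# Self-centralising elementary abelian subgroups of order `p³` in groups of maximal class

For `E` elementary abelian of order `p³`, self-centralising, with `|N(E)| = p⁴`, in a group of maximal
class of order `p ^ n`, `5 ≤ n`: `E = ⟨e⟩ (E ∩ γ 1)`, `N(E) = ⟨e⟩ γ (n - 4)`, and one of three
configurations holds.
-/

set_option autoImplicit false
set_option linter.unusedSectionVars false

namespace Cfsg.Agent.MaxClass

open Subgroup Pearl
open scoped commutatorElement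

universe u

variable {G : Type u} [Group G]

local notation "γ" => Subgroup.lowerCentralSeries (⊤ : Subgroup G)

theorem conj_mem_of_comm {A : Subgroup G} {g a : G} (h : ⁅g, a⁆ ∈ A) (ha : a ∈ A) : g * a * g⁻¹ ∈ A := by
  have := mul_mem h ha
  rwa [commutatorElement_def, inv_mul_cancel_right] at this

theorem comm_mem_of_normalizer {A : Subgroup G} {g a : G} (h : g ∈ normalizer (A : Set G)) (ha : a ∈ A) :
    ⁅g, a⁆ ∈ A :=
  mul_mem ((mem_normalizer_iff.mp h a).mp ha) (inv_mem ha)

theorem mem_normalizer_of_closure [Finite G] {A : Subgroup G} {s : Set G} (hA : A = closure s) {g : G}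
    (h : ∀ a ∈ s, ⁅g, a⁆ ∈ A) : g ∈ normalizer (A : Set G) := by
  have hle : A.map (MulAut.conj g).toMonoidHom ≤ A := by
    conv_lhs => rw [hA]
    rw [MonoidHom.map_closure, closure_le]
    rintro _ ⟨a, ha, rfl⟩
    exact conj_mem_of_comm (h a ha) (hA ▸ subset_closure ha)
  have heq := eq_of_le_of_card_ge hle (card_map_of_injective (MulAut.conj g).injective).ge
  refine mem_normalizer_iff.mpr fun a => ⟨fun ha => hle ⟨a, ha, rfl⟩, fun ha => ?_⟩
  obtain ⟨b, hb, hba⟩ := heq.ge ha
  rwa [← (MulAut.conj g).injective hba]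

theorem closure_insert_eq (e : G) (N : Subgroup G) :
    zpowers e ⊔ N = closure (insert e (N : Set G)) := by
  rw [Set.insert_eq, Subgroup.closure_union, ← zpowers_eq_closure, closure_eq]

variable {p n : ℕ} [Fact p.Prime] [Finite G]

theorem card_zpowers_sup {e : G} {N : Subgroup G} [N.Normal] (he : e ^ p = 1) (hN : e ∉ N) :
    Nat.card ↥(zpowers e ⊔ N) = p * Nat.card N := by
  have h := relIndex_mul_relIndex ⊥ N (zpowers e ⊔ N) bot_le le_sup_right
  rw [relIndex_bot_left, relIndex_bot_left, relIndex_sup_right] at h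
  have he1 : e ≠ 1 := fun h1 => hN (h1 ▸ one_mem N)
  have hd : N.relIndex (zpowers e) ∣ p := by
    have hd := Subgroup.index_dvd_card (N.subgroupOf (zpowers e))
    rwa [Nat.card_zpowers, orderOf_eq_prime he he1] at hd
  rcases (Nat.dvd_prime Fact.out).mp hd with h1 | h1
  · exact absurd (relIndex_eq_one.mp h1 (mem_zpowers e)) hN
  · rw [← h, h1, mul_comm]

theorem zpow_eq_one_of_mem {e : G} {H : Subgroup G} (he : e ^ p = 1) (hH : e ∉ H) {a : ℤ}
    (ha : e ^ a ∈ H) : e ^ a = 1 := by
  have hp := (Fact.out : p.Prime)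
  by_cases hdvd : (p : ℤ) ∣ a
  · obtain ⟨b, rfl⟩ := hdvd
    rw [zpow_mul, zpow_natCast, he, one_zpow]
  · have hco : IsCoprime (p : ℤ) a :=
      ((Nat.prime_iff_prime_int.mp hp).coprime_iff_not_dvd).mpr hdvd
    obtain ⟨x, y, hxy⟩ := hco
    refine absurd ?_ hH
    have h1 : e = (e ^ a) ^ y := by
      rw [← zpow_mul, mul_comm a y]
      conv_lhs => rw [← zpow_one e, ← hxy, zpow_add, mul_comm x, zpow_mul, zpow_natCast, he, one_zpow, one_mul]
    rw [h1]
    exact zpow_mem ha y

theorem lcs_top_le_center (hn : 3 ≤ n) (hG : Nat.card G = p ^ n) : γ (n - 2) ≤ center G := by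
  intro z hz
  refine mem_center_iff.mpr fun g => (commutatorElement_eq_one_iff_mul_comm.mp ?_).symm
  have h1 := lcs_succ_mem hz g
  rw [lcs_high hn hG (by omega : n - 1 ≤ n - 2 + 1), mem_bot] at h1
  exact h1

theorem commute_of_lcs (hn : 3 ≤ n) (hG : Nat.card G = p ^ n) {i j : ℕ} (hij : n - 1 ≤ i + j + 1) {a b : G}
    (ha : a ∈ γ i) (hb : b ∈ γ j) : Commute a b := by
  refine commutatorElement_eq_one_iff_mul_comm.mp (mem_bot.mp ?_)
  rw [← lcs_high hn hG hij]
  exact lcs_comm_mem ha hb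

theorem commute_of_layerCent (hn : 3 ≤ n) (hG : Nat.card G = p ^ n) {g w : G}
    (hg : g ∈ layerCent G (n - 3)) (hw : w ∈ γ (n - 3)) : Commute w g := by
  refine commutatorElement_eq_one_iff_mul_comm.mp (mem_bot.mp ?_)
  rw [← lcs_high hn hG (by omega : n - 1 ≤ n - 3 + 2)]
  exact mem_layerCent.mp hg w hw

/-- Elementary abelian of order `p³` and self-centralising. -/
structure SelfCent (p : ℕ) (E : Subgroup G) : Prop where
  card : Nat.card E = p ^ 3
  comm : ∀ a ∈ E, ∀ b ∈ E, a * b = b * a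
  pow : ∀ a ∈ E, a ^ p = 1
  self : centralizer (E : Set G) ≤ E

namespace SelfCent

variable {E : Subgroup G}

theorem mem_of_commute (hE : SelfCent p E) {g : G} (h : ∀ a ∈ E, Commute a g) : g ∈ E :=
  hE.self (mem_centralizer_iff.mpr fun a ha => (h a ha).eq)

theorem center_le (hE : SelfCent p E) : center G ≤ E :=
  (center_le_centralizer _).trans hE.self

/-- The part in `γ 1` when `E` is outside `γ 1`. -/
theorem card_inf (hn : 3 ≤ n) (hG : Nat.card G = p ^ n) (hcl : γ (n - 2) ≠ ⊥) (h5 : 5 ≤ n)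
    (hE : SelfCent p E) {e : G} (he : e ∈ E) (he1 : e ∉ γ 1) :
    Nat.card ↥(E ⊓ γ 1) = p ^ 2 ∧ zpowers e ⊔ (E ⊓ γ 1) = E := by
  have hp := (Fact.out : p.Prime)
  have hsup : E ≤ zpowers e ⊔ γ 1 := by
    intro g hg
    by_contra hgx
    have htop := closure_pair_eq_top hn hG hcl he1 hgx
    refine hcl (le_bot_iff.mp ((lcs_le (by omega : 1 ≤ n - 2)).trans ?_))
    rw [Subgroup.top_lowerCentralSeries_one, _root_.commutator_def, ← htop]
    refine commutator_closure_le _ _ _ ?_
    rintro a (rfl | rfl) b (rfl | rfl) <;> rw [mem_bot, commutatorElement_eq_one_iff_mul_comm]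
    exacts [hE.comm _ he _ hg, hE.comm _ hg _ he]
  have heq : zpowers e ⊔ (E ⊓ γ 1) = E := by
    refine le_antisymm (sup_le (zpowers_le.mpr he) inf_le_left) fun g hg => ?_
    obtain ⟨a, ha, b, hb, rfl⟩ := mem_sup_of_normal_right.mp (hsup hg)
    exact mul_mem (mem_sup_left ha)
      (mem_sup_right (mem_inf.mpr ⟨by simpa using mul_mem (inv_mem (zpowers_le.mpr he ha)) hg, hb⟩))
  refine ⟨?_, heq⟩
  have h := relIndex_mul_relIndex ⊥ (E ⊓ γ 1) E bot_le inf_le_left
  rw [relIndex_bot_left, relIndex_bot_left, inf_relIndex_left, hE.card] at h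
  have hle : (γ 1).relIndex E ≤ p := by
    refine (relIndex_le_of_le_right (H := γ 1) hsup index_ne_zero_of_finite).trans ?_
    rw [relIndex_sup_right]
    have hd := Subgroup.index_dvd_card ((γ 1).subgroupOf (zpowers e))
    rw [Nat.card_zpowers, orderOf_eq_prime (hE.pow e he) fun h1 => he1 (h1 ▸ one_mem _)] at hd
    exact Nat.le_of_dvd hp.pos hd
  obtain ⟨m, hm⟩ := PGroup.card_eq_pow (IsPGroup.of_card hG) (E ⊓ γ 1)
  have h2 : p ^ 2 ≤ p ^ m := by
    by_contra hlt
    push Not at hlt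
    have := Nat.mul_lt_mul_of_lt_of_le hlt hle hp.pos
    rw [← hm, h, ← pow_succ] at this
    exact lt_irrefl _ this
  have h3 : m < 3 := by
    by_contra hge
    refine he1 ?_
    have := eq_of_le_of_card_ge (inf_le_left : E ⊓ γ 1 ≤ E)
      (by rw [hE.card, hm]; exact Nat.pow_le_pow_right hp.pos (by omega))
    exact (mem_inf.mp (this.ge he)).2
  rw [hm, show m = 2 by have := (Nat.pow_le_pow_iff_right hp.one_lt).mp h2; omega]

/-- A normal line and plane inside `E`. -/
theorem exists_plane (hn : 3 ≤ n) (hG : Nat.card G = p ^ n) (hcl : γ (n - 2) ≠ ⊥) (h5 : 5 ≤ n)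
    (hE : SelfCent p E) :
    ∃ W : Subgroup G, W ≤ E ∧ Nat.card W = p ^ 2 ∧
      (∀ g ∈ normalizer (E : Set G), ∀ w ∈ W, g * w * g⁻¹ ∈ W) ∧
      ∃ z ∈ W, z ≠ 1 ∧ ∀ g : G, g * z * g⁻¹ = z := by
  have hz : ∀ W : Subgroup G, γ (n - 2) ≤ W → ∃ z ∈ W, z ≠ 1 ∧ ∀ g : G, g * z * g⁻¹ = z := by
    intro W hW
    obtain ⟨z, hz, hz1⟩ := (Subgroup.bot_or_exists_ne_one _).resolve_left hcl
    exact ⟨z, hW hz, hz1, fun g => by
      rw [mem_center_iff.mp (lcs_top_le_center hn hG hz) g, mul_inv_cancel_right]⟩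
  by_cases hle : E ≤ γ 1
  · have hWE : γ (n - 3) ≤ E := fun w hw => hE.mem_of_commute fun a ha =>
      commute_of_lcs hn hG (by omega) (hle ha) hw
    refine ⟨γ (n - 3), hWE, ?_, fun g _ w hw => (inferInstance : (γ (n - 3)).Normal).conj_mem w hw g,
      hz _ (lcs_le (by omega))⟩
    rw [card_lcs hn hG hcl (by omega), show n - 1 - (n - 3) = 2 by omega]
  · obtain ⟨e, he, he1⟩ := SetLike.not_le_iff_exists.mp hle
    exact ⟨E ⊓ γ 1, inf_le_left, (hE.card_inf hn hG hcl h5 he he1).1, fun g hg w hw =>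
      mem_inf.mpr ⟨(mem_normalizer_iff.mp hg w).mp (mem_inf.mp hw).1,
        (inferInstance : (γ 1).Normal).conj_mem w (mem_inf.mp hw).2 g⟩,
      hz _ (le_inf ((lcs_top_le_center hn hG).trans hE.center_le) (lcs_le (by omega)))⟩

/-- With `|N(E)| = p⁴`, `E` is outside `γ 1`. -/
theorem not_le_lcs (hn : 3 ≤ n) (hG : Nat.card G = p ^ n) (hcl : γ (n - 2) ≠ ⊥) (h5 : 5 ≤ n)
    (hE : SelfCent p E) (hN : Nat.card (normalizer (E : Set G)) = p ^ 4) : ¬ E ≤ γ 1 := by
  have hp := (Fact.out : p.Prime)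
  intro hle
  rcases Nat.lt_or_ge n 6 with hlt | h6
  · have heq : E = γ 1 := eq_of_le_of_card_ge hle (by
      rw [card_lcs hn hG hcl le_rfl, hE.card]; exact Nat.pow_le_pow_right hp.pos (by omega))
    rw [show normalizer (E : Set G) = ⊤ from
      normalizer_eq_top_iff.mpr (heq ▸ inferInstance), card_top, hG] at hN
    have := Nat.pow_right_injective hp.two_le hN
    omega
  have hWE : γ (n - 3) ≤ E := fun w hw => hE.mem_of_commute fun a ha =>
    commute_of_lcs hn hG (by omega) (hle ha) hw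
  have hclos : E = closure (E : Set G) := (closure_eq E).symm
  have h4 : γ (n - 5) ≤ normalizer (E : Set G) := fun g hg =>
    mem_normalizer_of_closure hclos fun a ha =>
      hWE (lcs_le (by omega) (lcs_comm_mem hg (hle ha)))
  have heq : γ (n - 5) = normalizer (E : Set G) := eq_of_le_of_card_ge h4 (by
    rw [hN, card_lcs hn hG hcl (by omega), show n - 1 - (n - 5) = 4 by omega])
  obtain ⟨g, hg, hg1⟩ : ∃ g ∈ layerCent G (n - 5), g ∉ γ 1 := by
    refine SetLike.not_le_iff_exists.mp fun h => ?_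
    have h1 := card_le_of_le h
    have h2 := (layerCent G (n - 5)).card_mul_index
    rw [index_layerCent hn hG hcl (by omega) (by omega), hG,
      show p ^ n = p ^ (n - 1) * p by rw [← pow_succ]; congr 1; omega] at h2
    rw [Nat.eq_of_mul_eq_mul_right hp.pos h2, card_lcs hn hG hcl le_rfl] at h1
    have := (Nat.pow_le_pow_iff_right hp.one_lt).mp h1
    omega
  refine hg1 ((lcs_le (by omega : 1 ≤ n - 5)) (heq.ge ?_))
  refine mem_normalizer_of_closure hclos fun a ha => hWE ?_
  have ha' : a ∈ γ (n - 5) := heq.ge (le_normalizer ha)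
  rw [← commutatorElement_inv, show n - 3 = n - 5 + 2 by omega]
  exact inv_mem (mem_layerCent.mp hg a ha')

end SelfCent

/-- The possible configurations. -/
structure Shape (p n : ℕ) (E : Subgroup G) (e : G) : Prop where
  self : SelfCent p E
  mem : e ∈ E
  nmem : e ∉ (⊤ : Subgroup G).lowerCentralSeries 1
  card_inf : Nat.card ↥(E ⊓ (⊤ : Subgroup G).lowerCentralSeries 1) = p ^ 2
  gen : zpowers e ⊔ (E ⊓ (⊤ : Subgroup G).lowerCentralSeries 1) = E
  inf_le : E ⊓ (⊤ : Subgroup G).lowerCentralSeries 1 ≤ (⊤ : Subgroup G).lowerCentralSeries (n - 4)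
  normalizer_eq : normalizer (E : Set G) = zpowers e ⊔ (⊤ : Subgroup G).lowerCentralSeries (n - 4)
  cases : (n = 5 ∧ e ∈ layerCent G 1 ∧ e ∈ layerCent G 2 ∧
      E ⊓ (⊤ : Subgroup G).lowerCentralSeries 1 = (⊤ : Subgroup G).lowerCentralSeries 2) ∨
    (n = 6 ∧ e ∈ layerCent G 1 ∧ e ∈ layerCent G 2 ∧ e ∉ layerCent G 3) ∨
    (6 ≤ n ∧ Even n ∧ e ∈ layerCent G (n - 3) ∧ (∀ i, 1 ≤ i → i + 4 ≤ n → e ∉ layerCent G i) ∧
      E ⊓ (⊤ : Subgroup G).lowerCentralSeries 1 = (⊤ : Subgroup G).lowerCentralSeries (n - 3))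

theorem SelfCent.exists_shape {E : Subgroup G} (hG : Nat.card G = p ^ n) (hcl : γ (n - 2) ≠ ⊥)
    (h5 : 5 ≤ n) (hE : SelfCent p E) (hN : Nat.card (normalizer (E : Set G)) = p ^ 4) :
    ∃ e, Shape p n E e := by
  have hn : 3 ≤ n := by omega
  have hp := (Fact.out : p.Prime)
  have hP := IsPGroup.of_card hG
  obtain ⟨e, he, he1⟩ := SetLike.not_le_iff_exists.mp (hE.not_le_lcs hn hG hcl h5 hN)
  obtain ⟨hW, hgen⟩ := hE.card_inf hn hG hcl h5 he he1
  set W := E ⊓ γ 1 with hWdef
  have hW1 : W ≤ γ 1 := inf_le_right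
  have hclos : E = closure (insert e (W : Set G)) := by rw [← closure_insert_eq, hgen]
  have hZ1E : γ (n - 2) ≤ E := (lcs_top_le_center hn hG).trans hE.center_le
  have hnE : ∀ {g : G}, ⁅g, e⁆ ∈ E → (∀ w ∈ W, ⁅g, w⁆ ∈ E) → g ∈ normalizer (E : Set G) :=
    fun h1 h2 => mem_normalizer_of_closure hclos (by
      rintro a (rfl | ha)
      · exact h1
      · exact h2 a ha)
  have hpe := hE.pow e he
  have hk : ∀ j, 1 ≤ j → e ∉ γ j := fun j hj h => he1 (lcs_le hj h)
  have hcard3 : 1 ≤ n - 4 → Nat.card (γ (n - 4)) = p ^ 3 := fun h => by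
    rw [card_lcs hn hG hcl h, show n - 1 - (n - 4) = 3 by omega]
  -- it is enough that `γ (n - 4)` normalises `E`
  have hfinish : γ (n - 4) ≤ normalizer (E : Set G) →
      normalizer (E : Set G) = zpowers e ⊔ γ (n - 4) := fun h =>
    (eq_of_le_of_card_ge (sup_le (zpowers_le.mpr (le_normalizer he)) h) (by
      rw [hN, card_zpowers_sup hpe (hk _ (by omega)), hcard3 (by omega), ← pow_succ'])).symm
  have hcen2 : ∀ {w y : G}, w ∈ W → y ∈ γ (n - 3) → Commute w y := fun hw hy =>
    commute_of_lcs hn hG (by omega) (hW1 hw) hy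
  by_cases hlast : e ∈ layerCent G (n - 3)
  · -- `E` contains the second centre
    have hWeq : W = γ (n - 3) := by
      refine (eq_of_le_of_card_ge (fun y hy => mem_inf.mpr ⟨hE.mem_of_commute fun a ha => ?_,
        lcs_le (by omega) hy⟩) ?_).symm
      · obtain ⟨c, hc, w, hw, rfl⟩ : ∃ c ∈ zpowers e, ∃ w ∈ W, c * w = a := by
          rw [← hgen] at ha
          refine closure_induction (p := fun a _ => ∃ c ∈ zpowers e, ∃ w ∈ W, c * w = a)
            ?_ ⟨1, one_mem _, 1, one_mem _, one_mul 1⟩ ?_ ?_ (closure_insert_eq e W ▸ ha)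
          · rintro x (rfl | hx)
            · exact ⟨x, mem_zpowers x, 1, one_mem _, mul_one x⟩
            · exact ⟨1, one_mem _, x, hx, one_mul x⟩
          · rintro _ _ _ _ ⟨c₁, hc₁, w₁, hw₁, rfl⟩ ⟨c₂, hc₂, w₂, hw₂, rfl⟩
            refine ⟨c₁ * c₂, mul_mem hc₁ hc₂, w₁ * w₂, mul_mem hw₁ hw₂, ?_⟩
            have := hE.comm c₂ (zpowers_le.mpr he hc₂) w₁ (mem_inf.mp hw₁).1
            calc c₁ * c₂ * (w₁ * w₂) = c₁ * (c₂ * w₁) * w₂ := by group
              _ = _ := by rw [this]; group
          · rintro _ _ ⟨c, hc, w, hw, rfl⟩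
            refine ⟨c⁻¹, inv_mem hc, w⁻¹, inv_mem hw, ?_⟩
            rw [← mul_inv_rev, hE.comm w (mem_inf.mp hw).1 c (zpowers_le.mpr he hc)]
        obtain ⟨i, rfl⟩ := mem_zpowers_iff.mp hc
        exact ((commute_of_layerCent hn hG hlast hy).symm.zpow_left i).mul_left (hcen2 hw hy)
      · rw [hW, card_lcs hn hG hcl (by omega), show n - 1 - (n - 3) = 2 by omega]
    have hN3 : γ (n - 4) ≤ normalizer (E : Set G) := fun g hg => hnE
      ((inf_le_left : W ≤ E) (hWeq.ge (lcs_le (by omega) (lcs_succ_mem hg e)))) fun w hw => by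
        rw [commutatorElement_eq_one_iff_mul_comm.mpr
          (commute_of_lcs hn hG (by omega) hg (hWeq.le hw)).eq]
        exact one_mem _
    have hbase : Nat.card ↥(γ (n - 3)) = p ^ 2 := hWeq ▸ hW
    refine ⟨e, hE, he, he1, hW, hgen, hWeq.le.trans (lcs_le (by omega)), hfinish hN3, ?_⟩
    by_cases he' : e ∈ layerCent G 1
    · left
      by_cases h6 : 6 ≤ n
      · exfalso
        have h4 : γ (n - 5) ≤ normalizer (E : Set G) := fun g hg => hnE
          ((inf_le_left : W ≤ E) (hWeq.ge (by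
            rw [show n - 3 = n - 5 + 2 by omega]
            exact mem_layerCent.mp (layerCent_eq hn hG hcl (k := n - 5) (by omega) (by omega) ▸ he') g hg)))
          fun w hw => by
            rw [commutatorElement_eq_one_iff_mul_comm.mpr
              (commute_of_lcs hn hG (by omega) hg (hWeq.le hw)).eq]
            exact one_mem _
        have := card_le_of_le (sup_le (zpowers_le.mpr (le_normalizer he)) h4)
        rw [hN, card_zpowers_sup hpe (hk _ (by omega)), card_lcs hn hG hcl (by omega),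
          show n - 1 - (n - 5) = 4 by omega, ← pow_succ'] at this
        have := (Nat.pow_le_pow_iff_right hp.one_lt).mp this
        omega
      · obtain rfl : n = 5 := by omega
        exact ⟨rfl, he', hlast, hWeq⟩
    · right; right
      have heven : Even n := by
        rcases Nat.even_or_odd n with h | h
        · exact h
        · exact absurd (layerCent_last_eq hG hcl h5 h ▸ hlast) he'
      obtain ⟨m, rfl⟩ := heven
      exact ⟨by omega, ⟨m, rfl⟩, hlast, fun i hi hin =>
        layerCent_eq hn hG hcl hi hin ▸ he', hWeq⟩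
  · -- `E` does not contain the second centre
    by_cases he' : e ∈ layerCent G 1
    swap
    · exfalso
      have hu := (uniform_of_not_mem hn hG hcl he1 fun k hk1 hk2 => by
        rcases Nat.lt_or_ge k (n - 3) with h | h
        · rw [layerCent_eq hn hG hcl hk1 (by omega)]; exact he'
        · rw [show k = n - 3 by omega]; exact hlast).1
      have := card_le_of_le (show E ≤ centralizer ({e} : Set G) from fun a ha =>
        mem_centralizer_singleton_iff.mpr (hE.comm a ha e he))
      rw [hE.card, hu] at this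
      have := (Nat.pow_le_pow_iff_right hp.one_lt).mp this
      omega
    have heven : Even n := by
      rcases Nat.even_or_odd n with h | h
      · exact h
      · exact absurd ((layerCent_last_eq hG hcl h5 h).symm ▸ he') hlast
    have h6 : 6 ≤ n := by obtain ⟨m, rfl⟩ := heven; omega
    have hlc : ∀ k, 1 ≤ k → k + 4 ≤ n → e ∈ layerCent G k := fun k h1 h2 => by
      rw [layerCent_eq hn hG hcl h1 h2]; exact he'
    have he3 : ∀ x ∈ γ (n - 4), ⁅x, e⁆ ∈ γ (n - 2) := fun x hx => by
      rw [show n - 2 = n - 4 + 2 by omega]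
      exact mem_layerCent.mp (hlc (n - 4) (by omega) (by omega)) x hx
    have hZ2N : γ (n - 3) ≤ normalizer (E : Set G) := fun g hg => hnE
      (hZ1E (lcs_le (by omega) (lcs_succ_mem hg e))) fun w hw => by
        rw [commutatorElement_eq_one_iff_mul_comm.mpr (hcen2 hw hg).symm.eq]
        exact one_mem _
    have hmem1 : ∀ y ∈ γ (n - 3), Commute y e → y ∈ γ (n - 2) := by
      intro y hy hye
      by_contra hy'
      refine hlast ((mem_layerCent_iff_gen hn hG hcl (by omega) hy ?_).mpr ?_)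
      · rwa [show n - 3 + 1 = n - 2 by omega]
      · rw [commutatorElement_eq_one_iff_mul_comm.mpr hye.eq]; exact one_mem _
    have hN2 : normalizer (E : Set G) = E ⊔ γ (n - 3) := by
      refine (eq_of_le_of_card_ge (sup_le le_normalizer hZ2N) ?_).symm
      have hlt : E < E ⊔ γ (n - 3) := left_lt_sup.mpr fun h => by
        refine (lcs_succ_lt hn hG hcl (i := n - 3) (by omega)).not_ge fun y hy => ?_
        rw [show n - 3 + 1 = n - 2 by omega]
        exact hmem1 y hy (hE.comm y (h hy) e he)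
      have := PGroup.mul_card_le_card hP hlt
      rwa [hE.card, ← pow_succ', ← hN] at this
    let f : γ (n - 4) →* γ (n - 2) := MonoidHom.mk' (fun x => ⟨⁅(x : G), e⁆, he3 x x.2⟩) fun a b => by
      refine Subtype.ext ?_
      show ⁅(a : G) * b, e⁆ = ⁅(a : G), e⁆ * ⁅(b : G), e⁆
      have hc := mem_center_iff.mp (lcs_top_le_center hn hG (he3 b b.2)) (a : G)
      have hc' := mem_center_iff.mp (lcs_top_le_center hn hG (he3 b b.2)) ⁅(a : G), e⁆
      calc ⁅(a : G) * b, e⁆ = (a * ⁅(b : G), e⁆) * (a : G)⁻¹ * ⁅(a : G), e⁆ := by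
            simp only [commutatorElement_def]; group
        _ = ⁅(b : G), e⁆ * ⁅(a : G), e⁆ := by rw [hc]; group
        _ = _ := hc'.symm
    have hker : p ^ 2 ≤ Nat.card f.ker := by
      have h := f.ker.card_mul_index
      rw [Subgroup.index_ker, hcard3 (by omega)] at h
      have hr := card_le_card_group f.range
      rw [card_lcs hn hG hcl (by omega : 1 ≤ n - 2), show n - 1 - (n - 2) = 1 by omega, pow_one] at hr
      have := Nat.mul_le_mul_left (Nat.card f.ker) hr
      rw [h, show p ^ 3 = p ^ 2 * p by ring] at this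
      exact Nat.le_of_mul_le_mul_right this hp.pos
    have hkerE : f.ker.map (γ (n - 4)).subtype ≤ E := by
      rintro _ ⟨w, hw, rfl⟩
      have hwe : Commute (w : G) e :=
        commutatorElement_eq_one_iff_mul_comm.mp (congrArg Subtype.val (MonoidHom.mem_ker.mp hw))
      have hwN : (w : G) ∈ E ⊔ γ (n - 3) := hN2 ▸ hnE (by
          rw [commutatorElement_eq_one_iff_mul_comm.mpr hwe.eq]; exact one_mem _)
        fun v hv => hZ1E (lcs_le (by omega) (lcs_comm_mem w.2 (hW1 hv)))
      obtain ⟨a, ha, y, hy, hay⟩ := mem_sup_of_normal_right.mp hwN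
      have hy' : Commute y e := by
        rw [show y = a⁻¹ * w by rw [← hay]; group]
        exact ((show Commute a e from hE.comm a ha e he).inv_left).mul_left hwe
      show (w : G) ∈ E
      rw [← hay]
      exact mul_mem ha (hZ1E (hmem1 y hy hy'))
    have hWle : W ≤ γ (n - 4) := by
      refine (eq_of_le_of_card_ge (le_inf hkerE ((map_subtype_le _).trans (lcs_le (by omega)))) ?_).ge.trans
        (map_subtype_le f.ker)
      rw [← hWdef, hW, card_map_of_injective (γ (n - 4)).subtype_injective]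
      exact hker
    have hN3 : γ (n - 4) ≤ normalizer (E : Set G) := fun g hg => hnE (hZ1E (he3 g hg)) fun w hw =>
      hZ1E (lcs_le (by omega) (lcs_comm_mem hg (hW1 hw)))
    refine ⟨e, hE, he, he1, hW, hgen, hWle, hfinish hN3, ?_⟩
    right; left
    by_cases h7 : 7 ≤ n
    · exfalso
      have hN' := hfinish hN3
      let W' := W.subgroupOf (γ (n - 4))
      have : W'.Normal := ⟨fun w hw g => by
        have hc : g * w = w * g := Subtype.ext (commute_of_lcs hn hG (by omega) g.2 w.2).eq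
        rwa [hc, mul_inv_cancel_right]⟩
      have he5 : ∀ x ∈ γ (n - 6), ⁅x, e⁆ ∈ γ (n - 4) := fun x hx => by
        rw [show n - 4 = n - 6 + 2 by omega]
        exact mem_layerCent.mp (hlc (n - 6) (by omega) (by omega)) x hx
      let f5 : γ (n - 6) →* γ (n - 4) ⧸ W' :=
        MonoidHom.mk' (fun x => QuotientGroup.mk' W' ⟨⁅(x : G), e⁆, he5 x x.2⟩) fun a b => by
          rw [← map_mul]
          refine QuotientGroup.eq.mpr ?_
          show (⁅(a : G) * b, e⁆)⁻¹ * (⁅(a : G), e⁆ * ⁅(b : G), e⁆) ∈ W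
          have h1 : ⁅(a : G), ⁅(b : G), e⁆⁆ ∈ γ (n - 2) :=
            lcs_le (by omega) (lcs_comm_mem a.2 (he5 b b.2))
          have h2 := mem_center_iff.mp (lcs_top_le_center hn hG h1)
          have h3 := (commute_of_lcs hn hG (by omega : n - 1 ≤ n - 4 + (n - 4) + 1) (he5 a a.2) (he5 b b.2)).eq
          have h4 : ⁅(a : G) * b, e⁆ = ⁅(a : G), ⁅(b : G), e⁆⁆ * ⁅(b : G), e⁆ * ⁅(a : G), e⁆ := by
            simp only [commutatorElement_def]; group
          rw [h4, mul_assoc, ← h3, mul_inv_rev, mul_assoc,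
            ← mem_center_iff.mp (lcs_top_le_center hn hG (inv_mem h1)) (⁅(a : G), e⁆ * ⁅(b : G), e⁆),
            inv_mul_cancel_left]
          exact mem_inf.mpr ⟨hZ1E (inv_mem h1), lcs_le (by omega) (inv_mem h1)⟩
      have hbound : f5.ker.map (γ (n - 6)).subtype ≤ γ (n - 4) := by
        rintro _ ⟨g, hg, rfl⟩
        have hgW : ⁅(g : G), e⁆ ∈ W := by
          have := MonoidHom.mem_ker.mp hg
          exact (QuotientGroup.eq_one_iff (N := W') _).mp this
        have hgN : (g : G) ∈ normalizer (E : Set G) := hnE (mem_inf.mp hgW).1 fun w hw =>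
          hZ1E (lcs_le (by omega) (lcs_comm_mem g.2 (hWle hw)))
        rw [hN'] at hgN
        obtain ⟨a, ha, y, hy, hay⟩ := mem_sup_of_normal_right.mp hgN
        obtain ⟨i, rfl⟩ := mem_zpowers_iff.mp ha
        have hi : e ^ i ∈ γ 1 := by
          rw [show e ^ i = (g : G) * y⁻¹ by rw [← hay]; group]
          exact mul_mem (lcs_le (by omega) g.2) (inv_mem (lcs_le (by omega) hy))
        rw [zpow_eq_one_of_mem hpe he1 hi, one_mul] at hay
        show (g : G) ∈ γ (n - 4)
        rw [← hay]; exact hy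
      have h := f5.ker.card_mul_index
      rw [Subgroup.index_ker, card_lcs hn hG hcl (by omega : 1 ≤ n - 6),
        show n - 1 - (n - 6) = 5 by omega] at h
      have h1 := card_le_of_le hbound
      rw [card_map_of_injective (γ (n - 6)).subtype_injective, hcard3 (by omega)] at h1
      have h2 : Nat.card f5.range ≤ p := by
        refine (card_le_card_group _).trans ?_
        have hq := W'.card_mul_index
        rw [Nat.card_congr (subgroupOfEquivOfLe hWle).toEquiv, hW, hcard3 (by omega),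
          pow_succ p 2] at hq
        rw [← Subgroup.index_eq_card, Nat.eq_of_mul_eq_mul_left (pow_pos hp.pos 2) hq]
      have := Nat.mul_le_mul h1 h2
      rw [h, ← pow_succ] at this
      have := (Nat.pow_le_pow_iff_right hp.one_lt).mp this
      omega
    · obtain rfl : n = 6 := by omega
      exact ⟨rfl, he', hlc 2 (by omega) le_rfl, hlast⟩

namespace Shape

variable {E : Subgroup G} {e : G}

theorem pow_eq (hE : Shape p n E e) : e ^ p = 1 := hE.self.pow e hE.mem

theorem not_mem_lcs (hE : Shape p n E e) {j : ℕ} (hj : 1 ≤ j) : e ∉ γ j :=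
  fun h => hE.nmem (lcs_le hj h)

theorem inf_lcs (hE : Shape p n E e) {j : ℕ} (hj : 1 ≤ j) : (zpowers e ⊔ γ j) ⊓ γ 1 = γ j := by
  refine le_antisymm (fun g hg => ?_) (le_inf le_sup_right (lcs_le hj))
  obtain ⟨hg1, hg2⟩ := mem_inf.mp hg
  obtain ⟨a, ha, y, hy, rfl⟩ := mem_sup_of_normal_right.mp hg1
  obtain ⟨i, rfl⟩ := mem_zpowers_iff.mp ha
  have hi : e ^ i ∈ γ 1 := by
    have := mul_mem hg2 (inv_mem (lcs_le hj hy))
    rwa [mul_inv_cancel_right] at this
  rwa [zpow_eq_one_of_mem hE.pow_eq hE.nmem hi, one_mul]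

theorem sup_eq (hE : Shape p n E e) {j : ℕ} (hj : j ≤ n - 4) : E ⊔ γ j = zpowers e ⊔ γ j := by
  refine le_antisymm (sup_le ?_ le_sup_right) (sup_le_sup_right (zpowers_le.mpr hE.mem) _)
  conv_lhs => rw [← hE.gen]
  exact sup_le_sup_left (hE.inf_le.trans (lcs_le hj)) _

theorem card_sup (hG : Nat.card G = p ^ n) (hcl : γ (n - 2) ≠ ⊥) (h5 : 5 ≤ n) (hE : Shape p n E e)
    {j : ℕ} (hj : 1 ≤ j) (hjn : j ≤ n - 4) : Nat.card ↥(E ⊔ γ j) = p ^ (n - j) := by
  rw [hE.sup_eq hjn, card_zpowers_sup hE.pow_eq (hE.not_mem_lcs hj),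
    card_lcs (by omega) hG hcl hj, ← pow_succ']
  congr 1
  omega

/-- The chain of normalisers above `E`. -/
theorem normalizer_sup (hG : Nat.card G = p ^ n) (hcl : γ (n - 2) ≠ ⊥) (h5 : 5 ≤ n) (hE : Shape p n E e)
    {j : ℕ} (hjn : j + 1 ≤ n - 4) :
    normalizer ((E ⊔ γ (j + 1) : Subgroup G) : Set G) = E ⊔ γ j := by
  have hn : 3 ≤ n := by omega
  have hNs := hE.sup_eq hjn
  refine le_antisymm (fun g hg => ?_) (sup_le (le_sup_left.trans le_normalizer) fun g hg =>
    mem_normalizer_of_closure (closure_eq _).symm fun a ha =>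
      mem_sup_right (by rw [← commutatorElement_inv]; exact inv_mem (by
        rw [← commutatorElement_inv]; exact inv_mem (lcs_succ_mem hg a))))
  rw [hE.sup_eq (by omega : j ≤ n - 4)]
  rcases Nat.eq_zero_or_pos j with rfl | hj
  · exact mem_sup_right (mem_top g)
  have hc : ∀ {x : G}, x ∈ normalizer ((E ⊔ γ (j + 1) : Subgroup G) : Set G) → ⁅x, e⁆ ∈ γ (j + 1) := by
    intro x hx
    rw [← hE.inf_lcs (by omega : 1 ≤ j + 1), ← hNs]
    refine mem_inf.mpr ⟨comm_mem_of_normalizer hx (mem_sup_left hE.mem), ?_⟩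
    rw [Subgroup.top_lowerCentralSeries_one, _root_.commutator_def]
    exact commutator_mem_commutator (mem_top _) (mem_top _)
  have hgM : g ∈ zpowers e ⊔ γ 1 := by
    by_contra hgx
    have htop := closure_pair_eq_top hn hG hcl hE.nmem hgx
    refine (lcs_succ_lt hn hG hcl (i := 1) (by omega)).not_ge ?_
    conv_lhs => rw [Subgroup.top_lowerCentralSeries_one, _root_.commutator_def, ← htop]
    refine commutator_closure_le _ _ _ ?_
    have h2 : ⁅g, e⁆ ∈ γ (1 + 1) := lcs_le (by omega) (hc hg)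
    rintro a (rfl | rfl) b (rfl | rfl)
    · rw [commutatorElement_self]; exact one_mem _
    · rw [← commutatorElement_inv]; exact inv_mem h2
    · exact h2
    · rw [commutatorElement_self]; exact one_mem _
  obtain ⟨a, ha, h, hh, rfl⟩ := mem_sup_of_normal_right.mp hgM
  refine mul_mem (mem_sup_left ha) (mem_sup_right ?_)
  have hhN : ⁅h, e⁆ ∈ γ (j + 1) := by
    refine hc ?_
    simpa using mul_mem (inv_mem (le_normalizer (zpowers_le.mpr (mem_sup_left hE.mem) ha))) hg
  suffices hall : ∀ i ≤ j, h ∈ γ i from hall j le_rfl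
  intro i
  induction i with
  | zero => exact fun _ => mem_top h
  | succ i ih =>
    intro hi
    rcases Nat.eq_zero_or_pos i with rfl | hi0
    · exact hh
    by_contra hne
    have hmem : e ∈ layerCent G i :=
      (mem_layerCent_iff_gen hn hG hcl hi0 (ih (by omega)) hne).mpr (lcs_le (by omega) hhN)
    rcases hE.cases with ⟨rfl, -⟩ | ⟨rfl, -⟩ | ⟨-, -, -, hno, -⟩
    · omega
    · omega
    · exact hno i hi0 (by omega) hmem

end Shape

end Cfsg.Agent.MaxClass
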