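import Cfsg.Agent.Lib.MaxClass.Uniform

/-!
# The degree of commutativity of a group of maximal class

* `comm_le` : if `Γ = layerCent 1` centralises the layers up to `K` then commutators of `γ i`, `γ j`
  fall one layer deeper for `i + j ≤ K`
* `layerCent_eq` : for `1 ≤ k ≤ n - 4` all two-step centralisers are equal (the central quotient has
  positive degree of commutativity)
* `layerCent_last_eq` : if `n` is odd, so is the last one
-/

set_option autoImplicit false
set_option linter.unusedSectionVars false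

namespace Cfsg.Agent.MaxClass

open Subgroup Pearl
open scoped commutatorElement

universe u

/-- Conjugating a commutator, all terms being nearly central. -/
theorem commutator_step {Q : Type u} [Group Q] (a b g : Q)
    (h1 : Commute ⁅a, g⁆ ⁅a, b⁆) (h2 : Commute ⁅b, g⁆ ⁅a, b⁆)
    (hc1 : ⁅a, ⁅b, g⁆⁆ ∈ center Q) (hc2 : ⁅⁅a, g⁆, b⁆ ∈ center Q)
    (h3 : ⁅⁅a, g⁆, ⁅b, g⁆⁆ = 1) :
    ⁅⁅a, b⁆, g⁆ = ⁅a, ⁅b, g⁆⁆ * ⁅⁅a, g⁆, b⁆ := by
  set a' := ⁅a, g⁆ with ha'
  set b' := ⁅b, g⁆ with hb'
  set t := ⁅a, b⁆ with ht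
  have hz1 := fun q => (mem_center_iff.mp hc1 q)
  have hz2 := fun q => (mem_center_iff.mp hc2 q)
  have e1 : ⁅a, b'⁻¹⁆ = ⁅a, b'⁆⁻¹ := by
    have := hz1 b'⁻¹
    calc ⁅a, b'⁻¹⁆ = b'⁻¹ * ⁅a, b'⁆⁻¹ * b' := by simp only [commutatorElement_def]; group
      _ = ⁅a, b'⁆⁻¹ := by
        rw [show b'⁻¹ * ⁅a, b'⁆⁻¹ = ⁅a, b'⁆⁻¹ * b'⁻¹ from
          (mem_center_iff.mp (inv_mem hc1) b'⁻¹)]
        group
  have e2 : ⁅a'⁻¹, b⁆ = ⁅a', b⁆⁻¹ := by
    calc ⁅a'⁻¹, b⁆ = a'⁻¹ * ⁅a', b⁆⁻¹ * a' := by simp only [commutatorElement_def]; group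
      _ = ⁅a', b⁆⁻¹ := by
        rw [show a'⁻¹ * ⁅a', b⁆⁻¹ = ⁅a', b⁆⁻¹ * a'⁻¹ from
          (mem_center_iff.mp (inv_mem hc2) a'⁻¹)]
        group
  have e3 : ⁅a'⁻¹, b'⁻¹⁆ = 1 := by
    rw [commutatorElement_eq_one_iff_mul_comm]
    exact (show Commute a' b' from commutatorElement_eq_one_iff_mul_comm.mp h3).inv_inv.eq
  have e4 : g * t * g⁻¹ = ⁅a'⁻¹ * a, b'⁻¹ * b⁆ := by
    simp only [ht, ha', hb', commutatorElement_def]; group
  have e5 : ⁅a'⁻¹ * a, b'⁻¹ * b⁆ =
      a'⁻¹ * (⁅a, b'⁻¹⁆ * (b'⁻¹ * t * b')) * a' * (⁅a'⁻¹, b'⁻¹⁆ * (b'⁻¹ * ⁅a'⁻¹, b⁆ * b')) := by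
    simp only [ht, commutatorElement_def]; group
  rw [e1, e2, e3, one_mul] at e5
  have hb : b'⁻¹ * t * b' = t := by rw [h2.inv_left.eq]; group
  have hb2 : b'⁻¹ * ⁅a', b⁆⁻¹ * b' = ⁅a', b⁆⁻¹ := by
    rw [show b'⁻¹ * ⁅a', b⁆⁻¹ = ⁅a', b⁆⁻¹ * b'⁻¹ from (mem_center_iff.mp (inv_mem hc2) b'⁻¹)]
    group
  have ha : a'⁻¹ * (⁅a, b'⁆⁻¹ * t) * a' = ⁅a, b'⁆⁻¹ * t := by
    rw [← mul_assoc, show a'⁻¹ * ⁅a, b'⁆⁻¹ = ⁅a, b'⁆⁻¹ * a'⁻¹ from
      (mem_center_iff.mp (inv_mem hc1) a'⁻¹), mul_assoc ⁅a, b'⁆⁻¹, h1.inv_left.eq]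
    group
  rw [hb, hb2, ha] at e5
  calc ⁅t, g⁆ = t * (g * t * g⁻¹)⁻¹ := by simp only [commutatorElement_def]; group
    _ = t * (⁅a', b⁆ * (t⁻¹ * ⁅a, b'⁆)) := by rw [e4, e5]; group
    _ = (t * ⁅a', b⁆) * (t⁻¹ * ⁅a, b'⁆) := by group
    _ = ⁅a', b⁆ * ⁅a, b'⁆ := by rw [hz2 t]; group
    _ = _ := hz1 _

variable {G : Type u} [Group G]

local notation "γ" => Subgroup.lowerCentralSeries (⊤ : Subgroup G)

/-- The three subgroups lemma modulo a normal subgroup. -/
theorem tsl {A B C N : Subgroup G} [N.Normal] (h1 : ⁅⁅B, C⁆, A⁆ ≤ N) (h2 : ⁅⁅C, A⁆, B⁆ ≤ N) :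
    ⁅⁅A, B⁆, C⁆ ≤ N := by
  let π := QuotientGroup.mk' N
  have key : ∀ {X Y Z : Subgroup G}, ⁅⁅X, Y⁆, Z⁆ ≤ N → ⁅⁅X.map π, Y.map π⁆, Z.map π⁆ = ⊥ := fun h => by
    rw [← Subgroup.map_commutator, ← Subgroup.map_commutator, Subgroup.map_eq_bot_iff, QuotientGroup.ker_mk']
    exact h
  have h := Subgroup.commutator_commutator_eq_bot_of_rotate (H₁ := A.map π) (H₂ := B.map π) (H₃ := C.map π)
    (key h1) (key h2)
  rwa [← Subgroup.map_commutator, ← Subgroup.map_commutator, Subgroup.map_eq_bot_iff,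
    QuotientGroup.ker_mk'] at h

theorem lcs_le {i j : ℕ} (h : i ≤ j) : γ j ≤ γ i :=
  Subgroup.lowerCentralSeries_antitone (⊤ : Subgroup G) h

theorem lcs_comm_le (i j : ℕ) : ⁅γ i, γ j⁆ ≤ γ (i + j + 1) :=
  Subgroup.commutator_le.mpr fun _ ha _ hb => lcs_comm_mem ha hb

/-- `layerCent 1` in degree `0`, the lower central series above. -/
def layer (G : Type u) [Group G] (i : ℕ) : Subgroup G :=
  if i = 0 then layerCent G 1 else (⊤ : Subgroup G).lowerCentralSeries i

theorem layer_zero : layer G 0 = layerCent G 1 := if_pos rfl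

theorem layer_pos {i : ℕ} (hi : 1 ≤ i) : layer G i = γ i := if_neg (by omega)

theorem layer_le_lcs (i : ℕ) : layer G i ≤ γ i := by
  rcases Nat.eq_zero_or_pos i with rfl | h
  · rw [layer_zero, Subgroup.lowerCentralSeries_zero]; exact le_top
  · rw [layer_pos h]

theorem layer_comm_le_lcs (i j : ℕ) : ⁅layer G i, layer G j⁆ ≤ γ (i + j + 1) :=
  (Subgroup.commutator_mono (layer_le_lcs i) (layer_le_lcs j)).trans (lcs_comm_le i j)

theorem comm_layer_le {i : ℕ} : ⁅layer G i, (⊤ : Subgroup G)⁆ ≤ γ (i + 1) := by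
  rw [Subgroup.lowerCentralSeries_succ]
  exact Subgroup.commutator_mono (layer_le_lcs i) le_rfl

variable {p n : ℕ} [Fact p.Prime] [Finite G]

/-- A uniform element is outside every two-step centraliser. -/
theorem uniform_not_mem_layerCent (hn : 3 ≤ n) (hG : Nat.card G = p ^ n) (hcl : γ (n - 2) ≠ ⊥) {x : G}
    (hC : Nat.card (centralizer ({x} : Set G)) = p ^ 2) {k : ℕ} (hk : 1 ≤ k) (hkn : k + 1 ≤ n - 2) :
    x ∉ layerCent G k := fun h => by
  obtain ⟨w, hw, hw'⟩ := exists_layer_gen hn hG hcl (by omega : k ≤ n - 2)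
  exact layer_commutator hn hG hcl hC hk hkn hw hw' (mem_layerCent.mp h w hw)

/-- Data: a uniform element and an element of `Γ` outside `γ 1`, generating. -/
structure Frame (p n : ℕ) (s u : G) : Prop where
  uniform : Nat.card (centralizer ({u} : Set G)) = p ^ 2
  mem : s ∈ layerCent G 1
  nmem : s ∉ (⊤ : Subgroup G).lowerCentralSeries 1
  gen : closure ({s, u} : Set G) = ⊤
  top : zpowers s ⊔ (⊤ : Subgroup G).lowerCentralSeries 1 = layerCent G 1

theorem exists_frame (hn : 4 ≤ n) (hG : Nat.card G = p ^ n) (hcl : γ (n - 2) ≠ ⊥) :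
    ∃ s u : G, Frame p n s u := by
  have hp := (Fact.out : p.Prime)
  obtain ⟨u, hu, -⟩ := exists_uniform (by omega : 3 ≤ n) hG hcl
  have hidx := index_layerCent (by omega : 3 ≤ n) hG hcl le_rfl (by omega : 1 + 1 ≤ n - 2)
  have hΓ := (layerCent G 1).card_mul_index
  rw [hidx, hG, show p ^ n = p ^ (n - 1) * p by rw [← pow_succ]; congr 1; omega] at hΓ
  have hΓc := Nat.eq_of_mul_eq_mul_right hp.pos hΓ
  have hγc := card_lcs (by omega : 3 ≤ n) hG hcl (le_refl 1)
  have hlt : γ 1 < layerCent G 1 := lt_of_le_of_ne (lcs_one_le_layerCent 1) fun h => by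
    rw [← h, hγc] at hΓc
    have := Nat.pow_right_injective hp.two_le hΓc
    omega
  obtain ⟨s, hs, hs'⟩ := SetLike.exists_of_lt hlt
  have htop : zpowers s ⊔ γ 1 = layerCent G 1 := by
    refine Subgroup.eq_of_le_of_card_ge (sup_le (zpowers_le.mpr hs) (lcs_one_le_layerCent 1)) ?_
    have h1 := PGroup.mul_card_le_card (IsPGroup.of_card hG) (H := γ 1) (K := zpowers s ⊔ γ 1)
      (right_lt_sup.mpr fun h => hs' (h (mem_zpowers s)))
    rw [hγc, ← pow_succ'] at h1
    rwa [hΓc, show n - 1 = n - 1 - 1 + 1 by omega]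
  exact ⟨s, u, hu, hs, hs', closure_pair_eq_top (by omega : 3 ≤ n) hG hcl hs' fun h =>
    uniform_not_mem_layerCent (by omega : 3 ≤ n) hG hcl hu le_rfl (by omega) (htop ▸ h), htop⟩

namespace Frame

variable {s u : G}

/-- The chain `s, [s,u], [s,u,u], …`. -/
def seq (s u : G) : ℕ → G
  | 0 => s
  | i + 1 => ⁅seq s u i, u⁆

theorem seq_mem (hf : Frame p n s u) : ∀ i, seq s u i ∈ layer G i
  | 0 => by rw [layer_zero]; exact hf.mem
  | i + 1 => by
    rw [layer_pos (by omega : 1 ≤ i + 1)]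
    exact comm_layer_le (commutator_mem_commutator (seq_mem hf i) (mem_top u))

theorem one_le_comm (hf : Frame p n s u) : γ 1 ≤ ⁅layerCent G 1, (⊤ : Subgroup G)⁆ := by
  have hnΓ : (layerCent G 1).Normal := by
    refine ⟨fun g hg c => ?_⟩
    have h : c * g * c⁻¹ = ⁅c, g⁆ * g := by simp only [commutatorElement_def]; group
    rw [h]
    refine mul_mem (lcs_one_le_layerCent 1 ?_) hg
    rw [Subgroup.top_lowerCentralSeries_one, _root_.commutator_def]
    exact commutator_mem_commutator (mem_top _) (mem_top _)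
  rw [Subgroup.top_lowerCentralSeries_one, _root_.commutator_def]
  conv_lhs => rw [← hf.gen]
  refine commutator_closure_le _ _ _ ?_
  rintro a (rfl | rfl) b (rfl | rfl)
  · exact commutator_mem_commutator hf.mem (mem_top _)
  · exact commutator_mem_commutator hf.mem (mem_top _)
  · rw [← commutatorElement_inv]
    exact inv_mem (commutator_mem_commutator hf.mem (mem_top _))
  · rw [commutatorElement_self]; exact one_mem _

theorem layer_succ_le (hf : Frame p n s u) (i : ℕ) :
    layer G (i + 1) ≤ ⁅layer G i, (⊤ : Subgroup G)⁆ := by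
  rw [layer_pos (by omega : 1 ≤ i + 1)]
  rcases Nat.eq_zero_or_pos i with rfl | h
  · rw [layer_zero]; exact hf.one_le_comm
  · rw [layer_pos h, Subgroup.lowerCentralSeries_succ]

/-- Commutators fall one layer deeper as long as `Γ` centralises the layers. -/
theorem comm_le (hf : Frame p n s u) {K : ℕ}
    (hK : ∀ k, 1 ≤ k → k ≤ K → layerCent G 1 ≤ layerCent G k) :
    ∀ i j, 1 ≤ j → i + j ≤ K → ⁅layer G i, γ j⁆ ≤ γ (i + j + 2) := by
  intro i
  induction i with
  | zero =>
    intro j hj hij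
    rw [layer_zero, Nat.zero_add, Subgroup.commutator_comm]
    exact Subgroup.commutator_le.mpr fun w hw g hg =>
      mem_layerCent.mp (hK j hj (by omega) hg) w hw
  | succ i ih =>
    intro j hj hij
    refine (Subgroup.commutator_mono (hf.layer_succ_le i) le_rfl).trans (tsl ?_ ?_)
    · rw [Subgroup.commutator_comm ⊤, ← Subgroup.lowerCentralSeries_succ, Subgroup.commutator_comm,
        show i + 1 + j + 2 = i + (j + 1) + 2 by omega]
      exact ih (j + 1) (by omega) (by omega)
    · rw [Subgroup.commutator_comm (γ j), show i + 1 + j + 2 = i + j + 2 + 1 by omega,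
        Subgroup.lowerCentralSeries_succ]
      exact Subgroup.commutator_mono (ih j hj (by omega)) le_rfl

/-- If `Γ` centralises the layers below an even one, it centralises that one. -/
theorem le_layerCent_even (hf : Frame p n s u) (hn : 3 ≤ n) (hG : Nat.card G = p ^ n)
    (hcl : γ (n - 2) ≠ ⊥) {h : ℕ} (hh : 1 ≤ h) (hkn : 2 * h + 3 ≤ n)
    (hK : ∀ k, 1 ≤ k → k ≤ 2 * h - 1 → layerCent G 1 ≤ layerCent G k) :
    layerCent G 1 ≤ layerCent G (2 * h) := by
  suffices hc : ∀ d ≤ h, ⁅layer G (h - d), γ (h + d)⁆ ≤ γ (2 * h + 2) by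
    have h0 := hc h le_rfl
    rw [Nat.sub_self, layer_zero, show h + h = 2 * h by omega, Subgroup.commutator_comm] at h0
    exact fun g hg => mem_layerCent.mpr fun w hw => h0 (commutator_mem_commutator hw hg)
  intro d
  induction d with
  | zero =>
    intro _
    rw [Nat.sub_zero, Nat.add_zero, layer_pos hh]
    obtain ⟨w, hw, hw'⟩ := exists_layer_gen hn hG hcl (by omega : h ≤ n - 2)
    have hgen : γ h = closure (insert w (γ (h + 1) : Set G)) := by
      rw [Set.insert_eq, Subgroup.closure_union, ← zpowers_eq_closure, closure_eq,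
        zpowers_sup_eq hn hG hcl hh hw hw']
    rw [hgen]
    refine commutator_closure_le _ _ _ ?_
    rintro a ha b hb
    rcases Set.mem_insert_iff.mp ha with ha' | ha
    · rcases Set.mem_insert_iff.mp hb with hb' | hb
      · rw [ha', hb', commutatorElement_self]; exact one_mem _
      · have h' := lcs_comm_mem hw hb
        rw [ha']
        rwa [show h + (h + 1) + 1 = 2 * h + 2 by omega] at h'
    · rcases Set.mem_insert_iff.mp hb with hb' | hb
      · have h' := lcs_comm_mem ha hw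
        rw [hb']
        rwa [show h + 1 + h + 1 = 2 * h + 2 by omega] at h'
      · exact lcs_le (by omega : 2 * h + 2 ≤ h + 1 + (h + 1) + 1) (lcs_comm_mem ha hb)
  | succ d ih =>
    intro hd
    rw [show h + (d + 1) = (h + d) + 1 by omega, Subgroup.commutator_comm,
      Subgroup.lowerCentralSeries_succ]
    refine tsl ?_ ?_
    · refine (Subgroup.commutator_mono (le_trans ?_ (layer_pos (by omega : 1 ≤ h - d)).ge) le_rfl).trans
        (ih (by omega))
      rw [Subgroup.commutator_comm, show h - d = h - (d + 1) + 1 by omega]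
      exact comm_layer_le
    · rw [show 2 * h + 2 = 2 * h + 1 + 1 by omega, Subgroup.lowerCentralSeries_succ]
      refine Subgroup.commutator_mono ?_ le_rfl
      have := hf.comm_le hK (h - (d + 1)) (h + d) (by omega) (by omega)
      rwa [show h - (d + 1) + (h + d) + 2 = 2 * h + 1 by omega] at this

theorem seq_not_mem (hf : Frame p n s u) (hn : 3 ≤ n) (hG : Nat.card G = p ^ n)
    (hcl : γ (n - 2) ≠ ⊥) : ∀ {i : ℕ}, i ≤ n - 2 → seq s u i ∉ γ (i + 1) := by
  intro i
  induction i with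
  | zero => exact fun _ => hf.nmem
  | succ i ih =>
    intro hi hmem
    rcases Nat.eq_zero_or_pos i with rfl | hi0
    · refine (lcs_succ_lt hn hG hcl (i := 1) (by omega)).not_ge ?_
      show γ 1 ≤ γ 2
      conv_lhs => rw [Subgroup.top_lowerCentralSeries_one, _root_.commutator_def, ← hf.gen]
      refine commutator_closure_le _ _ _ ?_
      rintro a (rfl | rfl) b (rfl | rfl)
      · rw [commutatorElement_self]; exact one_mem _
      · exact hmem
      · rw [← commutatorElement_inv]; exact inv_mem hmem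
      · rw [commutatorElement_self]; exact one_mem _
    · exact uniform_not_mem_layerCent hn hG hcl hf.uniform hi0 (by omega)
        ((mem_layerCent_iff_gen hn hG hcl hi0 (by simpa [layer_pos hi0] using hf.seq_mem i)
          (ih (by omega))).mpr hmem)

/-- The commutator step along the chain, modulo `γ (i + j + 3)`. -/
theorem seq_step (hf : Frame p n s u) {i j m : ℕ} (hm : m = i + j + 3)
    (ht : ⁅seq s u i, seq s u j⁆ ∈ γ (i + j + 1)) :
    QuotientGroup.mk' (γ m) ⁅⁅seq s u i, seq s u j⁆, u⁆ =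
      QuotientGroup.mk' (γ m) (⁅seq s u i, seq s u (j + 1)⁆ * ⁅seq s u (i + 1), seq s u j⁆) := by
  subst hm
  let π := QuotientGroup.mk' (γ (i + j + 3))
  have hmem := fun k => layer_le_lcs k (hf.seq_mem k)
  have hone : ∀ {g : G}, g ∈ γ (i + j + 3) → π g = 1 := fun h => (QuotientGroup.eq_one_iff _).mpr h
  have hcomm : ∀ {g c : G}, ⁅g, c⁆ ∈ γ (i + j + 3) → Commute (π g) (π c) := fun h =>
    commutatorElement_eq_one_iff_mul_comm.mp (by rw [← map_commutatorElement]; exact hone h)
  have hcen : ∀ {g : G}, g ∈ γ (i + j + 2) → π g ∈ center _ := by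
    intro g hg
    refine mem_center_iff.mpr fun q => ?_
    obtain ⟨c, rfl⟩ := QuotientGroup.mk'_surjective _ q
    exact (hcomm (lcs_succ_mem hg c)).symm.eq
  have e := commutator_step (π (seq s u i)) (π (seq s u j)) (π u) ?_ ?_ ?_ ?_ ?_
  · simp only [← map_commutatorElement, ← map_mul] at e
    exact e
  · rw [← map_commutatorElement, ← map_commutatorElement]
    exact hcomm (lcs_le (by omega) (lcs_comm_mem (hmem (i + 1)) ht))
  · rw [← map_commutatorElement, ← map_commutatorElement]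
    exact hcomm (lcs_le (by omega) (lcs_comm_mem (hmem (j + 1)) ht))
  · rw [← map_commutatorElement, ← map_commutatorElement]
    exact hcen (lcs_le (by omega) (lcs_comm_mem (hmem i) (hmem (j + 1))))
  · rw [← map_commutatorElement, ← map_commutatorElement]
    exact hcen (lcs_le (by omega) (lcs_comm_mem (hmem (i + 1)) (hmem j)))
  · rw [← map_commutatorElement, ← map_commutatorElement, ← map_commutatorElement]
    exact hone (lcs_le (by omega) (lcs_comm_mem (hmem (i + 1)) (hmem (j + 1))))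

/-- If `Γ` centralises the layers below an odd one less than `p`, it centralises that one. -/
theorem le_layerCent_odd (hf : Frame p n s u) (hn : 3 ≤ n) (hG : Nat.card G = p ^ n)
    (hcl : γ (n - 2) ≠ ⊥) {h : ℕ} (hh : 2 ≤ h) (hhp : h < p) (hkn : 2 * h + 3 ≤ n)
    (hK : ∀ k, 1 ≤ k → k ≤ 2 * h - 2 → layerCent G 1 ≤ layerCent G k) :
    layerCent G 1 ≤ layerCent G (2 * h - 1) := by
  obtain ⟨k, hk⟩ : ∃ k, k + 1 = 2 * h := ⟨2 * h - 1, by omega⟩
  rw [show 2 * h - 1 = k by omega]
  let π := QuotientGroup.mk' (γ (k + 3))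
  let σ := seq s u
  have hmem := fun i => layer_le_lcs i (hf.seq_mem i)
  have hone : ∀ {g : G}, g ∈ γ (k + 3) → π g = 1 := fun h => (QuotientGroup.eq_one_iff _).mpr h
  have hcen : ∀ {g : G}, g ∈ γ (k + 2) → π g ∈ center _ := by
    intro g hg
    refine mem_center_iff.mpr fun q => ?_
    obtain ⟨c, rfl⟩ := QuotientGroup.mk'_surjective _ q
    symm
    rw [← commutatorElement_eq_one_iff_mul_comm, ← map_commutatorElement]
    exact hone (lcs_succ_mem hg c)
  -- the values in the layer `k + 2`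
  set t : ℕ → G := fun i => ⁅σ i, σ (k - i)⁆ with htdef
  set A : ℕ → G ⧸ γ (k + 3) := fun i => π ⁅t i, u⁆ with hAdef
  set B : ℕ → G ⧸ γ (k + 3) := fun i => π ⁅σ i, σ (k + 1 - i)⁆ with hBdef
  have htmem : ∀ i ≤ k, t i ∈ γ (k + 1) := fun i hi => by
    have := lcs_comm_mem (hmem i) (hmem (k - i))
    rwa [show i + (k - i) + 1 = k + 1 by omega] at this
  have hAB : ∀ i < k, A i = B i * B (i + 1) := by
    intro i hi
    have e := hf.seq_step (i := i) (j := k - i) (m := k + 3) (by omega)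
      (by rw [show i + (k - i) + 1 = k + 1 by omega]; exact htmem i hi.le)
    simp only [map_mul, show k - i + 1 = k + 1 - i by omega] at e
    simp only [hAdef, hBdef, htdef, show k + 1 - (i + 1) = k - i by omega]
    exact e
  have hzmem : ∀ i ≤ k + 1, ⁅σ i, σ (k + 1 - i)⁆ ∈ γ (k + 2) := fun i hi => by
    have := lcs_comm_mem (hmem i) (hmem (k + 1 - i))
    rwa [show i + (k + 1 - i) + 1 = k + 2 by omega] at this
  have hAA : ∀ i < k, A (i + 1) = (A i)⁻¹ := by
    intro i hi
    have hw : ⁅σ i, σ (k - 1 - i)⁆ ∈ γ (k + 1) := by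
      by_cases h0 : 1 ≤ k - 1 - i
      · have := hf.comm_le hK i (k - 1 - i) h0 (by omega)
          (commutator_mem_commutator (hf.seq_mem i) (hmem (k - 1 - i)))
        rwa [show i + (k - 1 - i) + 2 = k + 1 by omega] at this
      · have hi1 : 1 ≤ i := by omega
        rw [← commutatorElement_inv, show k - 1 - i = 0 by omega]
        refine inv_mem ?_
        have := hf.comm_le hK 0 i hi1 (by omega)
          (commutator_mem_commutator (hf.seq_mem 0) (hmem i))
        rwa [show 0 + i + 2 = k + 1 by omega] at this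
    have e := hf.seq_step (i := i) (j := k - 1 - i) (m := k + 2) (by omega)
      (lcs_le (by omega) hw)
    rw [show QuotientGroup.mk' (γ (k + 2)) ⁅⁅seq s u i, seq s u (k - 1 - i)⁆, u⁆ = 1 from
      (QuotientGroup.eq_one_iff _).mpr (lcs_succ_mem hw u)] at e
    have hprod : t i * t (i + 1) ∈ γ (k + 2) := by
      have h2 := (QuotientGroup.eq_one_iff _).mp e.symm
      simpa [htdef, σ, show k - 1 - i + 1 = k - i by omega, show k - (i + 1) = k - 1 - i by omega] using h2
    have hsplit : π ⁅t i * t (i + 1), u⁆ = A (i + 1) * A i := by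
      have : ⁅t i * t (i + 1), u⁆ = t i * ⁅t (i + 1), u⁆ * (t i)⁻¹ * ⁅t i, u⁆ := by
        simp only [commutatorElement_def]; group
      have hc : π ⁅t (i + 1), u⁆ ∈ center _ := hcen (lcs_succ_mem (htmem (i + 1) (by omega)) u)
      rw [this, map_mul, map_mul, map_mul, mem_center_iff.mp hc (π (t i)), map_inv,
        mul_inv_cancel_right]
    rw [hone (lcs_succ_mem hprod u)] at hsplit
    exact eq_inv_of_mul_eq_one_left hsplit.symm
  have hBc : ∀ i ≤ k + 1, B i ∈ center _ := fun i hi => hcen (hzmem i hi)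
  have hAc : ∀ i ≤ k, A i ∈ center _ := fun i hi => hcen (lcs_succ_mem (htmem i hi) u)
  have hrec : ∀ i ≤ h, (B i) ^ ((-1 : ℤ) ^ i) * (A 0) ^ i = B 0 ∧ A i = (A 0) ^ ((-1 : ℤ) ^ i) := by
    intro i
    induction i with
    | zero =>
      intro _
      refine ⟨by rw [pow_zero, pow_zero, zpow_one, mul_one], by rw [pow_zero, zpow_one]⟩
    | succ i ih =>
      intro hi
      obtain ⟨ihB, ihA⟩ := ih (by omega)
      refine ⟨?_, by rw [hAA i (by omega), ihA, pow_succ, mul_neg, mul_one, zpow_neg]⟩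
      have hB1 : B (i + 1) = (B i)⁻¹ * A i := by rw [hAB i (by omega), inv_mul_cancel_left]
      have hcom : Commute (B i)⁻¹ (A i) := (mem_center_iff.mp (hAc i (by omega)) _)
      have hneg : (-1 : ℤ) ^ (i + 1) * (-1 : ℤ) ^ i = -1 := by
        rw [pow_succ, mul_comm ((-1 : ℤ) ^ i) (-1), mul_assoc, ← mul_pow]; simp
      rw [hB1, ihA] at *
      rw [hcom.mul_zpow, ← zpow_mul, mul_comm ((-1 : ℤ) ^ i), hneg, inv_zpow', zpow_neg_one,
        show -(-1 : ℤ) ^ (i + 1) = (-1 : ℤ) ^ i by rw [pow_succ]; ring,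
        pow_succ', mul_assoc, inv_mul_cancel_left]
      exact ihB
  have hBh : B h = 1 := by
    simp only [hBdef, show k + 1 - h = h by omega, commutatorElement_self, map_one]
  have hB0 : B 0 = (A 0) ^ h := by
    rw [← (hrec h le_rfl).1, hBh, one_zpow, one_mul]
  have hord : (A 0) ^ p = 1 := by
    have hp := (Fact.out : p.Prime)
    have hcard : Nat.card ((γ (k + 2)).map π) = p := by
      have h1 : Nat.card ((γ (k + 2)).map π) = (γ (k + 3)).relIndex (γ (k + 2)) := by
        rw [← Subgroup.relIndex_ker, QuotientGroup.ker_mk']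
      have h2 := relIndex_mul_relIndex ⊥ (γ (k + 3)) (γ (k + 2)) bot_le (lcs_le (by omega))
      rw [relIndex_bot_left, relIndex_bot_left, card_lcs hn hG hcl (by omega),
        card_lcs hn hG hcl (by omega),
        show n - 1 - (k + 2) = n - 1 - (k + 3) + 1 by omega, pow_succ] at h2
      rw [h1]
      exact Nat.eq_of_mul_eq_mul_left (pow_pos hp.pos _) h2
    have hA0 : A 0 ∈ (γ (k + 2)).map π := mem_map_of_mem π (lcs_succ_mem (htmem 0 (by omega)) u)
    have := congrArg Subtype.val (pow_card_eq_one' (x := (⟨A 0, hA0⟩ : (γ (k + 2)).map π)))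
    rwa [hcard] at this
  -- the Jacobi identity
  have hjac : ⁅t 1, σ 0⁆ ∈ γ (k + 3) := by
    refine tsl (A := γ 1) (B := γ (k - 1)) (C := layer G 0) ?_ ?_
      (commutator_mem_commutator (commutator_mem_commutator (hmem 1) (hmem (k - 1))) (hf.seq_mem 0))
    · refine (Subgroup.commutator_mono ?_ le_rfl).trans
        ((lcs_comm_le (k + 1) 1).trans (lcs_le (by omega)))
      rw [Subgroup.commutator_comm]
      have := hf.comm_le hK 0 (k - 1) (by omega) (by omega)
      rwa [show 0 + (k - 1) + 2 = k + 1 by omega] at this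
    · refine (Subgroup.commutator_mono ?_ le_rfl).trans
        ((lcs_comm_le 3 (k - 1)).trans (lcs_le (by omega)))
      exact hf.comm_le hK 0 1 le_rfl (by omega)
  have hA0 : A 0 = 1 := by
    by_contra hne
    have hB0ne : B 0 ≠ 1 := by
      rw [hB0]
      intro h1
      have := orderOf_dvd_of_pow_eq_one h1
      rw [orderOf_eq_prime hord hne] at this
      exact absurd (Nat.le_of_dvd (by omega) this) (by omega)
    by_cases ht1 : t 1 ∈ γ (k + 2)
    · refine hne ?_
      have h1 : A 1 = 1 := hone (lcs_succ_mem ht1 u)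
      rw [hAA 0 (by omega)] at h1
      exact inv_eq_one.mp h1
    · have hs := (mem_layerCent_iff_gen hn hG hcl (by omega) (htmem 1 (by omega)) ht1).mpr hjac
      refine hB0ne (hone ?_)
      rw [← commutatorElement_inv]
      exact inv_mem (mem_layerCent.mp hs _ (hmem (k + 1 - 0)))
  have ht0 : t 0 ∈ γ (k + 2) := by
    by_contra ht0
    exact uniform_not_mem_layerCent hn hG hcl hf.uniform (by omega) (by omega)
      ((mem_layerCent_iff_gen hn hG hcl (by omega) (htmem 0 (by omega)) ht0).mpr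
        ((QuotientGroup.eq_one_iff _).mp hA0))
  have hs : s ∈ layerCent G k := by
    refine (mem_layerCent_iff_gen hn hG hcl (by omega) (hmem k)
      (hf.seq_not_mem hn hG hcl (by omega))).mpr ?_
    rw [← commutatorElement_inv]
    refine inv_mem ?_
    simpa [htdef, σ, seq] using ht0
  rw [← hf.top]
  exact sup_le (zpowers_le.mpr hs) (lcs_one_le_layerCent k)

end Frame

theorem layerCent_eq_of_le (hn : 3 ≤ n) (hG : Nat.card G = p ^ n) (hcl : γ (n - 2) ≠ ⊥) {k : ℕ}
    (hk : 1 ≤ k) (hkn : k + 1 ≤ n - 2) (hle : layerCent G 1 ≤ layerCent G k) :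
    layerCent G k = layerCent G 1 := by
  refine (Subgroup.eq_of_le_of_card_ge hle ?_).symm
  have h1 := (layerCent G 1).card_mul_index
  have h2 := (layerCent G k).card_mul_index
  rw [index_layerCent hn hG hcl le_rfl (by omega)] at h1
  rw [index_layerCent hn hG hcl hk hkn, ← h1] at h2
  exact (Nat.eq_of_mul_eq_mul_right (Fact.out : p.Prime).pos h2).le

/-- The central quotient of a group of maximal class has positive degree of commutativity. -/
theorem layerCent_eq (hn : 3 ≤ n) (hG : Nat.card G = p ^ n) (hcl : γ (n - 2) ≠ ⊥) :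
    ∀ {k : ℕ}, 1 ≤ k → k + 4 ≤ n → layerCent G k = layerCent G 1 := by
  intro k
  induction k using Nat.strong_induction_on with
  | _ k ih =>
    intro hk hkn
    rcases Nat.lt_or_ge k 2 with hlt | hge
    · rw [show k = 1 by omega]
    by_cases hpk : p ≤ k
    · obtain ⟨x, hC, hx⟩ := exists_uniform hn hG hcl
      have := (Fact.out : p.Prime).two_le
      have h := layerCent_periodic hn hG hcl hx hC (j := k - (p - 1)) (by omega) (by omega)
      rw [show k - (p - 1) + (p - 1) = k by omega] at h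
      rw [h]
      exact ih _ (by omega) (by omega) (by omega)
    obtain ⟨s, u, hf⟩ := exists_frame (by omega : 4 ≤ n) hG hcl
    have hK : ∀ j, 1 ≤ j → j < k → layerCent G 1 ≤ layerCent G j := fun j hj hjk =>
      (ih j hjk hj (by omega)).ge
    refine layerCent_eq_of_le hn hG hcl hk (by omega) ?_
    obtain ⟨h, rfl | rfl⟩ := Nat.even_or_odd' k
    · exact hf.le_layerCent_even hn hG hcl (by omega) (by omega) fun j hj hjk => hK j hj (by omega)
    · have := hf.le_layerCent_odd hn hG hcl (h := h + 1) (by omega) (by omega) (by omega)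
        fun j hj hjk => hK j hj (by omega)
      rwa [show 2 * (h + 1) - 1 = 2 * h + 1 by omega] at this

/-- In odd degree the group itself has positive degree of commutativity. -/
theorem layerCent_last_eq (hG : Nat.card G = p ^ n) (hcl : γ (n - 2) ≠ ⊥) (h5 : 5 ≤ n) (hodd : Odd n) :
    layerCent G (n - 3) = layerCent G 1 := by
  obtain ⟨s, u, hf⟩ := exists_frame (by omega : 4 ≤ n) hG hcl
  obtain ⟨m, rfl⟩ := hodd
  refine layerCent_eq_of_le (by omega) hG hcl (by omega) (by omega) ?_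
  rw [show 2 * m + 1 - 3 = 2 * (m - 1) by omega]
  exact hf.le_layerCent_even (by omega) hG hcl (by omega) (by omega) fun j hj hjk =>
    (layerCent_eq (by omega) hG hcl hj (by omega)).ge

end Cfsg.Agent.MaxClass
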