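import Cfsg.Agent.Lib.MaxClass.Uniform
import Mathlib.Algebra.Polynomial.Roots

/-!
# A group of maximal class of order at least `p^(p+1)` has `℧₁ ⊄ γ p`

* `exists_pow_not_mem`: some `p`-th power lies outside `γ p` (so none of exponent `p` exists).

In `(ZMod p → G) × (C_p ≀ C_p)` the elements generated by `(yⁱ)ᵢ, Y` and `(x), X` have components
polynomial in `i` in each layer, with linear coefficient the coordinate in the wreath product.
-/

set_option autoImplicit false
set_option linter.style.haveILetI false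

namespace Cfsg.Agent.MaxClass

open Subgroup Pearl
open scoped commutatorElement

universe u

section Aux

variable {H : Type*} [Group H]

local notation "γH" => Subgroup.lowerCentralSeries (⊤ : Subgroup H)

theorem pow_val_eq {p : ℕ} {g : H} (hg : g ^ p = 1) (m : ℕ) : g ^ m = g ^ (m : ZMod p).val := by
  rw [ZMod.val_natCast]
  exact pow_eq_pow_mod m hg

theorem pow_val_add {p : ℕ} [NeZero p] {g : H} (hg : g ^ p = 1) (a b : ZMod p) :
    g ^ (a + b).val = g ^ a.val * g ^ b.val := by
  rw [← pow_add, pow_val_eq hg (a.val + b.val), Nat.cast_add, ZMod.natCast_zmod_val, ZMod.natCast_zmod_val]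

theorem mk'_commute {k : ℕ} {u : H} (hu : u ∈ γH k) (g : H) :
    Commute (QuotientGroup.mk' (γH (k + 1)) u) (QuotientGroup.mk' (γH (k + 1)) g) := by
  show _ = _
  rw [← commutatorElement_eq_one_iff_mul_comm, ← map_commutatorElement]
  exact (QuotientGroup.eq_one_iff _).mpr (lcs_succ_mem hu g)

/-- Commutation is bilinear from a layer to the next. -/
theorem comm_layer {k : ℕ} {w u g : H} (hw : w ∈ γH k) (_hu : u ∈ γH k) {m : ℕ} (l : ℕ)
    (h : QuotientGroup.mk' (γH (k + 1)) u = QuotientGroup.mk' (γH (k + 1)) w ^ m) :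
    QuotientGroup.mk' (γH (k + 1 + 1)) ⁅u, g ^ l⁆ =
      QuotientGroup.mk' (γH (k + 1 + 1)) ⁅w, g⁆ ^ (m * l) := by
  set π := QuotientGroup.mk' (γH (k + 1 + 1))
  have hcen : ∀ z ∈ γH (k + 1), π z ∈ center (H ⧸ γH (k + 1 + 1)) := fun z hz => mem_center_iff.mpr fun a => by
    obtain ⟨a, rfl⟩ := QuotientGroup.mk'_surjective _ a
    exact (mk'_commute hz a).eq.symm
  have hr : (w ^ m)⁻¹ * u ∈ γH (k + 1) := by
    rw [← map_pow] at h
    exact QuotientGroup.eq.mp h.symm
  have hwg : ⁅π w, π g⁆ ∈ center _ := map_commutatorElement π w g ▸ hcen _ (lcs_succ_mem hw g)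
  have hwgl : ⁅π w, π g ^ l⁆ ∈ center _ := by
    rw [← map_pow, ← map_commutatorElement]; exact hcen _ (lcs_succ_mem hw _)
  have hu' : π u = π w ^ m * π ((w ^ m)⁻¹ * u) := by rw [map_mul, map_inv, map_pow, mul_inv_cancel_left]
  have hr1 : ⁅π ((w ^ m)⁻¹ * u), π g ^ l⁆ = 1 :=
    commutatorElement_eq_one_iff_mul_comm.mpr (mem_center_iff.mp (hcen _ hr) _).symm
  rw [map_commutatorElement, map_commutatorElement, map_pow, hu',
    PGroup.commutator_mul_left (hr1 ▸ one_mem _), hr1, mul_one, PGroup.commutator_pow_left hwgl,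
    PGroup.commutator_pow_right hwg, ← pow_mul, mul_comm]

end Aux

open Polynomial in
/-- Components polynomial in the index in layer `k`, of linear coefficient the wreath coordinate. -/
def Good (p : ℕ) [Fact p.Prime] {G : Type u} [Group G] (k : ℕ) (w : G) (c : Model.Wr p)
    (hw : ∀ z ∈ ({w} : Set G), z ^ p ∈ (⊤ : Subgroup G).lowerCentralSeries (k + 1))
    (hc : c ^ p = 1) : Subgroup ((ZMod p → G) × Model.Wr p) where
  carrier := {v | ∃ f : (ZMod p)[X], f.natDegree ≤ k ∧ f.coeff 0 = 0 ∧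
    (∀ i, v.1 i ∈ (⊤ : Subgroup G).lowerCentralSeries k ∧
      QuotientGroup.mk' ((⊤ : Subgroup G).lowerCentralSeries (k + 1)) (v.1 i) =
        QuotientGroup.mk' ((⊤ : Subgroup G).lowerCentralSeries (k + 1)) w ^ (f.eval i).val) ∧
    v.2 ∈ (⊤ : Subgroup (Model.Wr p)).lowerCentralSeries k ∧
      QuotientGroup.mk' ((⊤ : Subgroup (Model.Wr p)).lowerCentralSeries (k + 1)) v.2 =
        QuotientGroup.mk' ((⊤ : Subgroup (Model.Wr p)).lowerCentralSeries (k + 1)) c ^ (f.coeff 1).val}
  one_mem' := ⟨0, by simp, by simp,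
    fun i => ⟨one_mem _, by rw [eval_zero, ZMod.val_zero, pow_zero]; exact map_one _⟩, one_mem _,
    by rw [coeff_zero, ZMod.val_zero, pow_zero]; exact map_one _⟩
  mul_mem' := by
    rintro a b ⟨f, hf, hf0, hf1, hf2, hf3⟩ ⟨g, hg, hg0, hg1, hg2, hg3⟩
    refine ⟨f + g, (natDegree_add_le _ _).trans (max_le hf hg), by rw [coeff_add, hf0, hg0, add_zero],
      fun i => ⟨mul_mem (hf1 i).1 (hg1 i).1, ?_⟩, mul_mem hf2 hg2, ?_⟩
    · rw [eval_add, pow_val_add (by rw [← map_pow]; exact (QuotientGroup.eq_one_iff _).mpr (hw w rfl)),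
        ← (hf1 i).2, ← (hg1 i).2, ← map_mul]
      rfl
    · rw [coeff_add, pow_val_add (by rw [← map_pow, hc, map_one]), ← hf3, ← hg3, ← map_mul]
      rfl
  inv_mem' := by
    rintro a ⟨f, hf, hf0, hf1, hf2, hf3⟩
    refine ⟨-f, (natDegree_neg f).le.trans hf, by rw [coeff_neg, hf0, neg_zero],
      fun i => ⟨inv_mem (hf1 i).1, ?_⟩, inv_mem hf2, ?_⟩
    · rw [Prod.fst_inv, Pi.inv_apply, map_inv, (hf1 i).2, inv_eq_iff_mul_eq_one,
        ← pow_val_add (by rw [← map_pow]; exact (QuotientGroup.eq_one_iff _).mpr (hw w rfl)), eval_neg,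
        add_neg_cancel, ZMod.val_zero, pow_zero]
    · rw [Prod.snd_inv, map_inv, hf3, inv_eq_iff_mul_eq_one,
        ← pow_val_add (by rw [← map_pow, hc, map_one]), coeff_neg, add_neg_cancel, ZMod.val_zero, pow_zero]

theorem good_normal (p : ℕ) [Fact p.Prime] {G : Type u} [Group G] (k : ℕ) (w : G) (c : Model.Wr p)
    (hw : ∀ z ∈ ({w} : Set G), z ^ p ∈ (⊤ : Subgroup G).lowerCentralSeries (k + 1)) (hc : c ^ p = 1) :
    (Good p k w c hw hc).Normal := by
  refine ⟨fun v hv a => ?_⟩
  obtain ⟨f, hf, hf0, hf1, hf2, hf3⟩ := hv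
  refine ⟨f, hf, hf0, fun i => ⟨(inferInstance : ((⊤ : Subgroup G).lowerCentralSeries k).Normal).conj_mem _ (hf1 i).1 _, ?_⟩,
    (inferInstance : ((⊤ : Subgroup (Model.Wr p)).lowerCentralSeries k).Normal).conj_mem _ hf2 _, ?_⟩
  · rw [← (hf1 i).2, Prod.fst_mul, Prod.fst_mul, Pi.mul_apply, Pi.mul_apply, Prod.fst_inv, Pi.inv_apply, map_mul,
      map_mul, map_inv, ← (mk'_commute (hf1 i).1 (a.1 i)).eq, mul_inv_cancel_right]
  · rw [← hf3, Prod.snd_mul, Prod.snd_mul, Prod.snd_inv, map_mul, map_mul, map_inv,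
      ← (mk'_commute hf2 a.2).eq, mul_inv_cancel_right]

variable {G : Type u} [Group G] {p n : ℕ} [Fact p.Prime] [Finite G]

local notation "γ" => Subgroup.lowerCentralSeries (⊤ : Subgroup G)
local notation "δ" => Subgroup.lowerCentralSeries (⊤ : Subgroup (Model.Wr p))

open Polynomial in
/-- Some `p`-th power lies outside `γ p`. -/
theorem exists_pow_not_mem (hn : 3 ≤ n) (hG : Nat.card G = p ^ n) (hcl : γ (n - 2) ≠ ⊥) (hpn : p + 1 ≤ n) :
    ∃ g : G, g ^ p ∉ γ p := by
  by_contra hall
  push Not at hall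
  have hp := (Fact.out : p.Prime)
  have hp2 := hp.two_le
  obtain ⟨x, hC, hx⟩ := exists_uniform hn hG hcl
  have hx1 : x ∉ γ 1 := not_mem_commutator hn hG hcl hC
  obtain ⟨y, hy⟩ : ∃ y, y ∉ zpowers x ⊔ γ 1 := by
    by_contra h
    push Not at h
    have htop : zpowers x ⊔ γ 1 = ⊤ := eq_top_iff.mpr fun g _ => h g
    refine (lcs_succ_lt hn hG hcl (i := 0) (by omega)).not_ge fun g _ => ?_
    have hnc := PGroup.not_cyclic_of_lcs_ne_bot (G := G) (by omega : 1 ≤ n - 2) hcl
    refine absurd ?_ hnc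
    refine isCyclic_iff_exists_zpowers_eq_top.mpr ⟨x, ?_⟩
    rw [zpowers_eq_closure]
    refine PGroup.closure_eq_top_of_sup_frattini (top_le_iff.mp (htop.ge.trans ?_))
    rw [← zpowers_eq_closure]
    refine sup_le_sup le_rfl ?_
    rw [Subgroup.top_lowerCentralSeries_one]
    exact PGroup.commutator_le_frattini (IsPGroup.of_card hG)
  -- the two descending sequences
  let w : ℕ → G := fun k => Nat.rec y (fun _ a => ⁅a, x⁆) k
  let c : ℕ → Model.Wr p := fun k => Nat.rec (Model.Y p) (fun _ a => ⁅a, Model.X p⁆) k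
  have hw0 : ∀ k, w k ∈ γ k := by
    intro k
    induction k with
    | zero => exact mem_top _
    | succ k ih => exact lcs_succ_mem ih x
  have hc0 : ∀ k, c k ∈ δ k := by
    intro k
    induction k with
    | zero => exact mem_top _
    | succ k ih => exact lcs_succ_mem ih _
  have hw1 : w 1 ∉ γ (1 + 1) := by
    intro h
    refine (lcs_succ_lt hn hG hcl (i := 1) (by omega)).not_ge ?_
    have htop := closure_pair_eq_top hn hG hcl hx1 hy
    have h' : ⁅y, x⁆ ∈ γ (1 + 1) := h
    suffices h2 : ⁅closure ({x, y} : Set G), closure ({x, y} : Set G)⁆ ≤ γ (1 + 1) by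
      rw [htop] at h2
      rw [Subgroup.top_lowerCentralSeries_one, commutator_def]
      exact h2
    refine commutator_closure_le _ _ _ ?_
    rintro a (rfl | rfl) b (rfl | rfl)
    · rw [commutatorElement_self]; exact one_mem _
    · rw [← commutatorElement_inv]; exact inv_mem h'
    · exact h'
    · rw [commutatorElement_self]; exact one_mem _
  have hwn : ∀ k, 1 ≤ k → k ≤ p - 1 → w k ∉ γ (k + 1) := by
    intro k hk
    induction k, hk using Nat.le_induction with
    | base => exact fun _ => hw1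
    | succ k hk ih =>
      intro hkp
      exact layer_commutator hn hG hcl hC hk (by omega) (hw0 k) (ih (by omega))
  have hwp : ∀ k, 1 ≤ k → ∀ z ∈ ({w k} : Set G), z ^ p ∈ γ (k + 1) := by
    intro k hk z hz
    rw [Set.mem_singleton_iff.mp hz]
    exact Subgroup.lowerCentralSeries_antitone (⊤ : Subgroup G) (by omega : k + 1 ≤ k + p - 1)
      (pow_mem_shift hn hG hcl hx hC n k hk (by omega) _ (hw0 k))
  have hcp : ∀ k, 1 ≤ k → c k ^ p = 1 := fun k hk =>
    Model.base_pow p (Subgroup.lowerCentralSeries_antitone (⊤ : Subgroup (Model.Wr p)) hk (hc0 k))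
  set Xe : (ZMod p → G) × Model.Wr p := (fun _ => x, Model.X p) with hXe
  set Ye : (ZMod p → G) × Model.Wr p := (fun i => y ^ i.val, Model.Y p) with hYe
  set P := closure ({Xe, Ye} : Set ((ZMod p → G) × Model.Wr p)) with hPdef
  have hlow : ∀ k (hk : 1 ≤ k), k ≤ p - 1 →
      P.lowerCentralSeries k ≤ Good p k (w k) (c k) (hwp k hk) (hcp k hk) := by
    intro k hk
    induction k, hk using Nat.le_induction with
    | base =>
      intro _
      rw [show P.lowerCentralSeries 1 = ⁅P, P⁆ from rfl]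
      refine @commutator_closure_le _ _ _ _ _ (good_normal p 1 (w 1) (c 1) (hwp 1 le_rfl) (hcp 1 le_rfl)) ?_
      have hb : ⁅Ye, Xe⁆ ∈ Good p 1 (w 1) (c 1) (hwp 1 le_rfl) (hcp 1 le_rfl) := by
        refine ⟨X, natDegree_X_le, coeff_X_zero, fun i => ⟨lcs_succ_mem (i := 0) (mem_top _) _, ?_⟩,
          lcs_succ_mem (i := 0) (mem_top _) _, ?_⟩
        · have h := comm_layer (k := 0) (g := x) (mem_top (w 0)) (mem_top (y ^ i.val)) 1
            (map_pow (QuotientGroup.mk' (γ (0 + 1))) y i.val)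
          rw [pow_one, mul_one] at h
          rw [eval_X]
          exact h
        · rw [coeff_X_one, ZMod.val_one, pow_one]
          rfl
      rintro a (rfl | rfl) b (rfl | rfl)
      · rw [commutatorElement_self]; exact one_mem _
      · rw [← commutatorElement_inv]; exact inv_mem hb
      · exact hb
      · rw [commutatorElement_self]; exact one_mem _
    | succ k hk ih =>
      intro hkp
      rw [Subgroup.lowerCentralSeries_succ]
      refine (Subgroup.commutator_mono ((ih (by omega)).trans (Subgroup.closure_eq _).ge) le_rfl).trans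
        (@commutator_closure_le _ _ _ _ _
          (good_normal p (k + 1) (w (k + 1)) (c (k + 1)) (hwp (k + 1) (by omega)) (hcp (k + 1) (by omega))) ?_)
      rintro v ⟨f, hf, hf0, hf1, hf2, hf3⟩ b (rfl | rfl)
      · refine ⟨f, hf.trans (Nat.le_succ k), hf0, fun i => ⟨lcs_succ_mem (hf1 i).1 _, ?_⟩, lcs_succ_mem hf2 _, ?_⟩
        · have h := comm_layer (g := x) (hw0 k) (hf1 i).1 1 (hf1 i).2
          rw [pow_one, mul_one] at h
          exact h
        · have h := comm_layer (g := Model.X p) (hc0 k) hf2 1 hf3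
          rw [pow_one, mul_one] at h
          exact h
      · obtain ⟨a, ha, r, hr, har⟩ := mem_sup_of_normal_right.mp
          ((zpowers_sup_eq hn hG hcl (by omega) (hw0 (k + 1)) (hwn (k + 1) (by omega) hkp)).ge
            (lcs_succ_mem (hw0 k) y))
        obtain ⟨m, rfl⟩ := mem_zpowers_iff.mp ha
        set π := QuotientGroup.mk' (γ (k + 1 + 1))
        have hπp : π (w (k + 1)) ^ p = 1 := by
          rw [← map_pow]; exact (QuotientGroup.eq_one_iff _).mpr (hwp (k + 1) (by omega) _ rfl)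
        have hβ : π ⁅w k, y⁆ = π (w (k + 1)) ^ (m : ZMod p).val := by
          rw [← har, map_mul, show π r = 1 from (QuotientGroup.eq_one_iff _).mpr hr, mul_one, map_zpow,
            ← zpow_natCast, ZMod.val_intCast]
          exact zpow_eq_zpow_emod m (by rw [zpow_natCast]; exact hπp)
        refine ⟨C (m : ZMod p) * (X * f), ?_, by simp, fun i => ⟨lcs_succ_mem (hf1 i).1 _, ?_⟩, lcs_succ_mem hf2 _, ?_⟩
        · exact (natDegree_C_mul_le _ _).trans (natDegree_mul_le.trans (by
            have := natDegree_X_le (R := ZMod p); omega))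
        · have h := comm_layer (g := y) (hw0 k) (hf1 i).1 i.val (hf1 i).2
          refine h.trans ?_
          show π ⁅w k, y⁆ ^ ((f.eval i).val * i.val) = π (w (k + 1)) ^ ((C (m : ZMod p) * (X * f)).eval i).val
          rw [hβ, ← pow_mul, pow_val_eq hπp]
          congr 2
          simp only [Nat.cast_mul, ZMod.natCast_zmod_val, eval_mul, eval_C, eval_X]
          ring
        · have h0 : ⁅v.2, Model.Y p⁆ = 1 := commutatorElement_eq_one_iff_mul_comm.mpr
            (Model.base_comm p (Subgroup.lowerCentralSeries_antitone (⊤ : Subgroup (Model.Wr p)) hk hf2))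
          show QuotientGroup.mk' _ ⁅v.2, Model.Y p⁆ = _
          rw [h0, map_one, coeff_C_mul, coeff_X_mul, hf0, mul_zero, ZMod.val_zero, pow_zero]
  have hp1 : 1 ≤ p - 1 := by omega
  set L := Good p (p - 1) (w (p - 1)) (c (p - 1)) (hwp (p - 1) hp1) (hcp (p - 1) hp1) with hL
  have hpow : ∀ z : (ZMod p → G) × Model.Wr p, z.2 ^ p = 1 → z ^ p ∈ L := fun z hz => by
    refine ⟨0, by simp, by simp, fun i => ⟨?_, ?_⟩, ?_, ?_⟩
    · exact Subgroup.lowerCentralSeries_antitone (⊤ : Subgroup G) (by omega : p - 1 ≤ p) (hall _)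
    · rw [eval_zero, ZMod.val_zero, pow_zero]
      exact (QuotientGroup.eq_one_iff _).mpr
        (Subgroup.lowerCentralSeries_antitone (⊤ : Subgroup G) (by omega : p - 1 + 1 ≤ p) (hall _))
    · rw [Prod.pow_snd, hz]; exact one_mem _
    · rw [coeff_zero, ZMod.val_zero, pow_zero, Prod.pow_snd, hz, map_one]
  haveI hLn : L.Normal := good_normal p (p - 1) (w (p - 1)) (c (p - 1)) (hwp (p - 1) hp1) (hcp (p - 1) hp1)
  have key := @mul_pow_congr _ _ p _ P L hLn (hlow (p - 1) hp1 le_rfl) (fun z hz => by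
    obtain ⟨f, -, -, -, hf2, -⟩ := hlow 1 le_rfl (by omega)
      (show z ∈ P.lowerCentralSeries 1 from hz)
    exact hpow z (Model.base_pow p hf2))
    _ _ (subset_closure (Set.mem_insert_of_mem Xe (Set.mem_singleton Ye))) (subset_closure (Set.mem_insert Xe _))
  rw [show QuotientGroup.mk' L (Ye ^ p) = 1 from (QuotientGroup.eq_one_iff _).mpr (hpow _ (Model.Y_pow p)),
    show QuotientGroup.mk' L (Xe ^ p) = 1 from (QuotientGroup.eq_one_iff _).mpr (hpow _ (Model.X_pow p))] at key
  replace key := key.trans (one_mul _)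
  obtain ⟨f, hf, -, hf1, -, hf3⟩ := (QuotientGroup.eq_one_iff _).mp key
  have hne : QuotientGroup.mk' (γ (p - 1 + 1)) (w (p - 1)) ≠ 1 := fun h =>
    hwn (p - 1) (by omega) le_rfl ((QuotientGroup.eq_one_iff _).mp h)
  have hord : orderOf (QuotientGroup.mk' (γ (p - 1 + 1)) (w (p - 1))) = p := orderOf_eq_prime
    (by rw [← map_pow]; exact (QuotientGroup.eq_one_iff _).mpr (hwp (p - 1) (by omega) _ rfl)) hne
  have heval : ∀ i, f.eval i = 0 := by
    intro i
    have h1 : QuotientGroup.mk' (γ (p - 1 + 1)) (w (p - 1)) ^ (f.eval i).val = 1 := by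
      rw [← (hf1 i).2]
      refine (QuotientGroup.eq_one_iff _).mpr ?_
      rw [show p - 1 + 1 = p by omega]
      exact hall _
    have h2 := orderOf_dvd_of_pow_eq_one h1
    rw [hord] at h2
    exact (ZMod.val_eq_zero _).mp (Nat.eq_zero_of_dvd_of_lt h2 (ZMod.val_lt _))
  have hf0 : f = 0 := eq_zero_of_natDegree_lt_card_of_eval_eq_zero f (f := fun i : ZMod p => i)
    Function.injective_id heval (by rw [ZMod.card]; omega)
  rw [hf0, coeff_zero, ZMod.val_zero, pow_zero] at hf3
  have h := (QuotientGroup.eq_one_iff _).mp hf3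
  rw [show p - 1 + 1 = p by omega, Model.lcs_eq_bot p, mem_bot] at h
  exact Model.YX_pow_ne_one p h

end Cfsg.Agent.MaxClass
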