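import Cfsg.Agent.Lib.Pearl.Shift

/-!
# Groups of maximal class: powers shift the layers, relative to a uniform element

As `Lib/Pearl/Shift` but only `|C(x)| = p²` and `x ^ p` central are assumed.

* `mul_pow_eq` : `(y x)^p = x^p` for `y ∈ γ 1`
* `pow_mem_shift` : `y ∈ γ j` gives `y^p ∈ γ (j+p-1)`
* `pow_not_mem_shift` : `y ∈ γ j \ γ (j+1)` gives `y^p ∉ γ (j+p)`
-/

set_option autoImplicit false
set_option linter.style.haveILetI false

namespace Cfsg.Agent.MaxClass

open Subgroup Pearl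
open scoped commutatorElement

universe u

variable {G : Type u} [Group G]

local notation "γ" => Subgroup.lowerCentralSeries (⊤ : Subgroup G)

theorem mul_pow_eq {p n : ℕ} [Fact p.Prime] [Finite G] (hn : 3 ≤ n) (hG : Nat.card G = p ^ n)
    (hcl : γ (n - 2) ≠ ⊥) {x : G} (hx : x ^ p ∈ center G) (hC : Nat.card (centralizer {x}) = p ^ 2) {y : G}
    (hy : y ∈ γ 1) : (y * x) ^ p = x ^ p := by
  have hn1 : (γ 1).Normal := inferInstance
  obtain ⟨g, hg⟩ := exists_commutator_eq hn hG hcl hC (hn1.conj_mem y hy x⁻¹)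
  rw [inv_inv, show x * (x⁻¹ * y * x) = y * x by group] at hg
  rw [← hg, conj_pow, mem_center_iff.mp hx g, mul_inv_cancel_right]

theorem pow_mem_shift {p n : ℕ} [Fact p.Prime] [Finite G] (hn : 3 ≤ n) (hG : Nat.card G = p ^ n)
    (hcl : γ (n - 2) ≠ ⊥) {x : G} (hx : x ^ p ∈ center G) (hC : Nat.card (centralizer {x}) = p ^ 2) :
    ∀ d j, 1 ≤ j → n - 1 ≤ j + d → ∀ y ∈ γ j, y ^ p ∈ γ (j + p - 1) := by
  intro d
  induction d with
  | zero =>
    intro j _ hjn y hy
    rw [lcs_high hn hG (by omega : n - 1 ≤ j), mem_bot] at hy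
    rw [hy, one_pow]
    exact one_mem _
  | succ d ih =>
    intro j hj hjn y hy
    have hp := (Fact.out : p.Prime)
    set P := closure (insert x (γ j : Set G)) with hPdef
    have hP1 : ⁅P, P⁆ ≤ γ (j + 1) := by
      refine commutator_closure_le _ _ _ ?_
      rintro a ha b hb
      rcases Set.mem_insert_iff.mp ha with rfl | ha
      · rcases Set.mem_insert_iff.mp hb with rfl | hb
        · rw [commutatorElement_self]; exact one_mem _
        · rw [← commutatorElement_inv]; exact inv_mem (lcs_succ_mem hb _)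
      · exact lcs_succ_mem ha _
    have hPk : ∀ k, 1 ≤ k → P.lowerCentralSeries k ≤ γ (j + k) := by
      intro k hk
      induction k, hk using Nat.le_induction with
      | base => rwa [show 1 = 0 + 1 from rfl, Subgroup.lowerCentralSeries_succ, Subgroup.lowerCentralSeries_zero]
      | succ k hk ihk =>
        rw [Subgroup.lowerCentralSeries_succ, ← Nat.add_assoc, Subgroup.lowerCentralSeries_succ]
        exact Subgroup.commutator_mono ihk le_top
    have hp2 := hp.two_le
    have key := mul_pow_congr P (γ (j + p - 1))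
      ((hPk (p - 1) (by omega)).trans (le_of_eq (by rw [show j + (p - 1) = j + p - 1 by omega])))
      (fun z hz => Subgroup.lowerCentralSeries_antitone (⊤ : Subgroup G) (by omega : j + p - 1 ≤ j + 1 + p - 1)
        (ih (j + 1) (by omega) (by omega) z (hP1 hz)))
      (subset_closure (Set.mem_insert_of_mem x hy)) (subset_closure (Set.mem_insert x _))
    rw [mul_pow_eq hn hG hcl hx hC (Subgroup.lowerCentralSeries_antitone (⊤ : Subgroup G) hj hy)] at key
    nth_rw 1 [← one_mul (QuotientGroup.mk' (γ (j + p - 1)) (x ^ p))] at key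
    replace key := mul_right_cancel key
    exact (QuotientGroup.eq_one_iff _).mp key.symm

theorem pow_not_mem_shift {p n : ℕ} [Fact p.Prime] [Finite G] (hn : 3 ≤ n) (hG : Nat.card G = p ^ n)
    (hcl : γ (n - 2) ≠ ⊥) {x : G} (hx : x ^ p ∈ center G) (hC : Nat.card (centralizer {x}) = p ^ 2)
    {j : ℕ} (hj : 1 ≤ j) (hjn : j + p - 1 ≤ n - 2) {y : G} (hy : y ∈ γ j) (hy' : y ∉ γ (j + 1)) :
    y ^ p ∉ γ (j + p) := by
  have hp := (Fact.out : p.Prime)
  have hp2 := hp.two_le
  have hshift : ∀ i, 1 ≤ i → ∀ z ∈ γ i, z ^ p ∈ γ (i + p - 1) := fun i hi =>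
    pow_mem_shift hn hG hcl hx hC n i hi (by omega)
  intro hcon
  let π := QuotientGroup.mk' (γ (j + p))
  let U : ℕ → Subgroup ((G ⧸ γ (j + p)) × Model.Wr p) := fun k =>
    ((γ (j + k)).map π).prod ((⊤ : Subgroup (Model.Wr p)).lowerCentralSeries k)
  have hU : ∀ k, (U k).Normal := fun k => by
    haveI : ((γ (j + k)).map π).Normal := Normal.map inferInstance π (QuotientGroup.mk'_surjective _)
    exact prod_normal _ _
  have hUstep : ∀ k, ∀ a ∈ U k, ∀ g, ⁅a, g⁆ ∈ U (k + 1) := by
    intro k a ha g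
    obtain ⟨⟨w, hw, hwa⟩, ha2⟩ := mem_prod.mp ha
    obtain ⟨g', hg'⟩ := QuotientGroup.mk'_surjective (γ (j + p)) g.1
    refine mem_prod.mpr ⟨⟨⁅w, g'⁆, lcs_succ_mem hw g', ?_⟩, ?_⟩
    · show π ⁅w, g'⁆ = ⁅a.1, g.1⁆
      rw [map_commutatorElement, hwa, show π g' = g.1 from hg']
    · show ⁅a.2, g.2⁆ ∈ _
      rw [Subgroup.lowerCentralSeries_succ]
      exact commutator_mem_commutator ha2 (mem_top _)
  set Xe : (G ⧸ γ (j + p)) × Model.Wr p := (π x, Model.X p) with hXe
  set Ye : (G ⧸ γ (j + p)) × Model.Wr p := (π y, Model.Y p) with hYe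
  set P := closure ({Xe, Ye} : Set ((G ⧸ γ (j + p)) × Model.Wr p)) with hPdef
  have inv : ∀ k, 1 ≤ k → k ≤ p - 1 → ∃ c : (G ⧸ γ (j + p)) × Model.Wr p,
      (∃ w, w ∈ γ (j + k) ∧ w ∉ γ (j + k + 1) ∧ π w = c.1) ∧
      c.2 ∈ (⊤ : Subgroup (Model.Wr p)).lowerCentralSeries k ∧
      P.lowerCentralSeries k ≤ zpowers c ⊔ U (k + 1) := by
    intro k hk
    induction k, hk using Nat.le_induction with
    | base =>
      intro _
      haveI := hU 2
      have hbase : ⁅Ye, Xe⁆ ∈ U 1 := by
        refine mem_prod.mpr ⟨⟨⁅y, x⁆, lcs_succ_mem hy x, ?_⟩, ?_⟩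
        · show π ⁅y, x⁆ = ⁅π y, π x⁆
          exact map_commutatorElement π y x
        · show ⁅Model.Y p, Model.X p⁆ ∈ _
          rw [Subgroup.top_lowerCentralSeries_one]
          exact commutator_mem_commutator (mem_top _) (mem_top _)
      refine ⟨⁅Ye, Xe⁆, ⟨⁅y, x⁆, lcs_succ_mem hy x,
        layer_commutator hn hG hcl hC hj (by omega) hy hy', map_commutatorElement π y x⟩,
        (mem_prod.mp hbase).2, ?_⟩
      haveI := normal_zpowers_sup (U 2) (c := ⁅Ye, Xe⁆) (hUstep 1 _ hbase)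
      rw [show P.lowerCentralSeries 1 = ⁅P, P⁆ from rfl]
      refine commutator_closure_le _ _ _ ?_
      rintro a (rfl | rfl) b (rfl | rfl)
      · rw [commutatorElement_self]; exact one_mem _
      · have h := inv_mem (show ⁅Ye, Xe⁆ ∈ zpowers ⁅Ye, Xe⁆ ⊔ U (1 + 1) from mem_sup_left (mem_zpowers _))
        rwa [commutatorElement_inv] at h
      · exact mem_sup_left (mem_zpowers _)
      · rw [commutatorElement_self]; exact one_mem _
    | succ k hk ihk =>
      intro hkp
      obtain ⟨c, ⟨w, hw, hw', hwc⟩, hc2, hle⟩ := ihk (by omega)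
      haveI := hU (k + 2)
      have hcU : c ∈ U k := mem_prod.mpr ⟨⟨w, hw, hwc⟩, hc2⟩
      refine ⟨⁅c, Xe⁆, ⟨⁅w, x⁆, lcs_succ_mem hw x, ?_, ?_⟩, (mem_prod.mp (hUstep k c hcU Xe)).2, ?_⟩
      · exact layer_commutator hn hG hcl hC (k := j + k) (by omega) (by omega) hw hw'
      · show π ⁅w, x⁆ = ⁅c.1, π x⁆
        rw [map_commutatorElement, hwc]
      haveI := normal_zpowers_sup (U (k + 2)) (c := ⁅c, Xe⁆) (hUstep (k + 1) _ (hUstep k c hcU Xe))
      have hgen : zpowers c ⊔ U (k + 1) = closure (insert c (U (k + 1) : Set _)) := by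
        rw [Set.insert_eq, Subgroup.closure_union, ← zpowers_eq_closure, closure_eq]
      rw [Subgroup.lowerCentralSeries_succ]
      refine (Subgroup.commutator_mono (hle.trans hgen.le) le_rfl).trans (commutator_closure_le _ _ _ ?_)
      rintro a ha b hb
      rcases Set.mem_insert_iff.mp ha with rfl | ha
      · rcases hb with rfl | rfl
        · exact mem_sup_left (mem_zpowers _)
        · refine mem_sup_right (mem_prod.mpr ⟨⟨⁅w, y⁆, ?_, ?_⟩, ?_⟩)
          · exact Subgroup.lowerCentralSeries_antitone (⊤ : Subgroup G)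
              (by omega : j + (k + 2) ≤ j + k + j + 1) (lcs_comm_mem hw hy)
          · show π ⁅w, y⁆ = ⁅a.1, π y⁆
            rw [map_commutatorElement, hwc]
          · show ⁅a.2, Model.Y p⁆ ∈ _
            rw [commutatorElement_eq_one_iff_mul_comm.mpr (Model.base_comm p
              (Subgroup.lowerCentralSeries_antitone (⊤ : Subgroup (Model.Wr p)) hk hc2))]
            exact one_mem _
      · exact mem_sup_right (hUstep (k + 1) a ha b)
  obtain ⟨c, ⟨w, hw, hw', hwc⟩, hc2, hle⟩ := inv (p - 1) (by omega) le_rfl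
  have hbot : U (p - 1 + 1) = ⊥ := by
    rw [eq_bot_iff]
    intro a ha
    obtain ⟨⟨v, hv, hva⟩, ha2⟩ := mem_prod.mp ha
    rw [show p - 1 + 1 = p by omega] at hv ha2
    rw [Model.lcs_eq_bot p, mem_bot] at ha2
    rw [mem_bot]
    exact Prod.ext (by rw [← hva]; exact (QuotientGroup.eq_one_iff _).mpr hv) ha2
  rw [hbot, sup_bot_eq] at hle
  have hwc1 : c.1 ≠ 1 := fun h => hw' (by
    rw [← hwc] at h
    rw [show j + (p - 1) + 1 = j + p by omega]
    exact (QuotientGroup.eq_one_iff _).mp h)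
  have hc1p : c.1 ^ p = 1 := by
    rw [← hwc, ← map_pow]
    exact (QuotientGroup.eq_one_iff _).mpr (Subgroup.lowerCentralSeries_antitone (⊤ : Subgroup G)
      (by omega) (hshift _ (by omega) w hw))
  have hc2p : c.2 ^ p = 1 := Model.base_pow p
    (Subgroup.lowerCentralSeries_antitone (⊤ : Subgroup (Model.Wr p)) (by omega : 1 ≤ p - 1) hc2)
  -- the commutator subgroup of `P` has exponent `p`
  have hexp : ∀ z ∈ ⁅P, P⁆, z ^ p ∈ zpowers c := by
    intro z hz
    have hzU : z ∈ U 1 := by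
      haveI := hU 1
      refine commutator_closure_le _ _ _ (fun a _ b _ => ?_) hz |> fun h => h
      rename_i ha hb
      rcases ha with rfl | rfl <;> rcases hb with rfl | rfl
      · rw [commutatorElement_self]; exact one_mem _
      · rw [← commutatorElement_inv]
        exact inv_mem (mem_prod.mpr ⟨⟨⁅y, x⁆, lcs_succ_mem hy x, map_commutatorElement π y x⟩, by
          rw [Subgroup.top_lowerCentralSeries_one]
          exact commutator_mem_commutator (mem_top _) (mem_top _)⟩)
      · exact mem_prod.mpr ⟨⟨⁅y, x⁆, lcs_succ_mem hy x, map_commutatorElement π y x⟩, by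
          rw [Subgroup.top_lowerCentralSeries_one]
          exact commutator_mem_commutator (mem_top _) (mem_top _)⟩
      · rw [commutatorElement_self]; exact one_mem _
    obtain ⟨⟨v, hv, hvz⟩, hz2⟩ := mem_prod.mp hzU
    have h1 : z ^ p = 1 := Prod.ext (by
      show z.1 ^ p = 1
      rw [← hvz, ← map_pow]
      exact (QuotientGroup.eq_one_iff _).mpr (Subgroup.lowerCentralSeries_antitone (⊤ : Subgroup G)
        (by omega) (hshift _ (by omega) v hv))) (Model.base_pow p hz2)
    rw [h1]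
    exact one_mem _
  have hcU : c ∈ U (p - 1) := mem_prod.mpr ⟨⟨w, hw, hwc⟩, hc2⟩
  haveI : (zpowers c).Normal := by
    have h := normal_zpowers_sup (⊥ : Subgroup ((G ⧸ γ (j + p)) × Model.Wr p)) (c := c) fun g =>
      hbot ▸ hUstep (p - 1) c hcU g
    rwa [sup_bot_eq] at h
  have key := mul_pow_congr P (zpowers c) hle hexp
    (subset_closure (Set.mem_insert_of_mem Xe (Set.mem_singleton Ye))) (subset_closure (Set.mem_insert Xe _))
  have hYp : Ye ^ p = 1 := Prod.ext (by
    show π y ^ p = 1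
    rw [← map_pow]
    exact (QuotientGroup.eq_one_iff _).mpr hcon) (Model.Y_pow p)
  rw [hYp, map_one, one_mul] at key
  obtain ⟨a, ha⟩ := mem_zpowers_iff.mp (QuotientGroup.eq.mp key.symm)
  have hfst : c.1 ^ a = 1 := by
    have h := congrArg Prod.fst ha
    rw [show ((Xe ^ p)⁻¹ * (Ye * Xe) ^ p).1 = ((π x) ^ p)⁻¹ * (π y * π x) ^ p from rfl, ← map_mul, ← map_pow,
      ← map_pow, mul_pow_eq hn hG hcl hx hC (Subgroup.lowerCentralSeries_antitone (⊤ : Subgroup G) hj hy),
      inv_mul_cancel] at h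
    exact h
  have hdvd : (p : ℤ) ∣ a := by
    rw [← orderOf_eq_prime hc1p hwc1, orderOf_dvd_iff_zpow_eq_one]
    exact hfst
  obtain ⟨b, rfl⟩ := hdvd
  refine Model.YX_pow_ne_one p ?_
  have h := congrArg Prod.snd ha
  rw [show (c ^ ((p : ℤ) * b)).2 = c.2 ^ ((p : ℤ) * b) from rfl, zpow_mul, zpow_natCast, hc2p, one_zpow,
    show ((Xe ^ p)⁻¹ * (Ye * Xe) ^ p).2 = (Model.X p ^ p)⁻¹ * (Model.Y p * Model.X p) ^ p from rfl,
    Model.X_pow, inv_one, one_mul] at h
  exact h.symm

end Cfsg.Agent.MaxClass
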