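import Cfsg.Agent.Lib.MaxClass.Shift
import Cfsg.Agent.Lib.PGroup.Frattini

/-!
# Two-step centralisers and uniform elements in groups of maximal class

* `layerCent k` : elements centralising `γ k / γ (k+2)`; of index `p` for `1 ≤ k ≤ n - 3`
* `layerCent_periodic` : `layerCent j = layerCent (j+p-1)` given a uniform element
* `exists_uniform` : some `x` has `|C(x)| = p²` and `x ^ p` central
-/

set_option autoImplicit false
set_option linter.style.haveILetI false

namespace Cfsg.Agent.MaxClass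

open Subgroup Pearl
open scoped commutatorElement

universe u

variable {G : Type u} [Group G]

local notation "γ" => Subgroup.lowerCentralSeries (⊤ : Subgroup G)

/-- The centraliser of `γ k / γ (k+2)`. -/
def layerCent (G : Type u) [Group G] (k : ℕ) : Subgroup G :=
  (centralizer ((((⊤ : Subgroup G).lowerCentralSeries k).map
    (QuotientGroup.mk' ((⊤ : Subgroup G).lowerCentralSeries (k + 2))) :
      Subgroup (G ⧸ (⊤ : Subgroup G).lowerCentralSeries (k + 2))) :
    Set (G ⧸ (⊤ : Subgroup G).lowerCentralSeries (k + 2)))).comap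
      (QuotientGroup.mk' ((⊤ : Subgroup G).lowerCentralSeries (k + 2)))

theorem mem_layerCent {k : ℕ} {g : G} : g ∈ layerCent G k ↔ ∀ w ∈ γ k, ⁅w, g⁆ ∈ γ (k + 2) := by
  have key : ∀ w, ⁅w, g⁆ ∈ γ (k + 2) ↔
      QuotientGroup.mk' (γ (k + 2)) w * QuotientGroup.mk' (γ (k + 2)) g =
        QuotientGroup.mk' (γ (k + 2)) g * QuotientGroup.mk' (γ (k + 2)) w := fun w => by
    rw [← commutatorElement_eq_one_iff_mul_comm, ← map_commutatorElement]
    exact (QuotientGroup.eq_one_iff _).symm
  constructor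
  · intro h w hw
    exact (key w).mpr (mem_centralizer_iff.mp (mem_comap.mp h) _ (mem_map_of_mem _ hw))
  · intro h
    refine mem_comap.mpr (mem_centralizer_iff.mpr ?_)
    rintro _ ⟨w, hw, rfl⟩
    exact (key w).mp (h w hw)

theorem lcs_one_le_layerCent (k : ℕ) : γ 1 ≤ layerCent G k := fun g hg =>
  mem_layerCent.mpr fun _ hw => lcs_comm_mem hw hg

variable {p n : ℕ} [Fact p.Prime] [Finite G]

/-- A generator of a layer generates it modulo the next one. -/
theorem zpowers_sup_eq (hn : 3 ≤ n) (hG : Nat.card G = p ^ n) (hcl : γ (n - 2) ≠ ⊥) {i : ℕ} (hi : 1 ≤ i)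
    {k : G} (hk : k ∈ γ i) (hk' : k ∉ γ (i + 1)) : zpowers k ⊔ γ (i + 1) = γ i := by
  refine eq_of_le_of_card_ge
    (sup_le (zpowers_le.mpr hk) (Subgroup.lowerCentralSeries_antitone (⊤ : Subgroup G) (Nat.le_succ i))) ?_
  have h1 := PGroup.mul_card_le_card (IsPGroup.of_card hG) (H := γ (i + 1)) (K := zpowers k ⊔ γ (i + 1))
    (right_lt_sup.mpr fun h => hk' (h (mem_zpowers k)))
  have hin : i ≤ n - 2 := by
    by_contra hlt
    refine hk' ?_
    rw [lcs_high hn hG (by omega : n - 1 ≤ i)] at hk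
    rw [mem_bot.mp hk]
    exact one_mem _
  rw [card_lcs hn hG hcl hi]
  rw [card_lcs hn hG hcl (by omega : 1 ≤ i + 1), ← pow_succ'] at h1
  rwa [show n - 1 - (i + 1) + 1 = n - 1 - i by omega] at h1

theorem lcs_succ_lt (hn : 3 ≤ n) (hG : Nat.card G = p ^ n) (hcl : γ (n - 2) ≠ ⊥) {i : ℕ} (hin : i ≤ n - 2) :
    γ (i + 1) < γ i := by
  rw [Subgroup.lowerCentralSeries_succ]
  refine PGroup.commutator_top_lt (IsPGroup.of_card hG) _ fun h => hcl ?_
  exact le_bot_iff.mp ((Subgroup.lowerCentralSeries_antitone (⊤ : Subgroup G) hin).trans h.le)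

theorem exists_layer_gen (hn : 3 ≤ n) (hG : Nat.card G = p ^ n) (hcl : γ (n - 2) ≠ ⊥) {i : ℕ}
    (hin : i ≤ n - 2) : ∃ w, w ∈ γ i ∧ w ∉ γ (i + 1) :=
  SetLike.exists_of_lt (lcs_succ_lt hn hG hcl hin)

/-- `⁅w, g⁆` is a homomorphism in `g` into the next layer. -/
theorem mem_layerCent_iff_gen (hn : 3 ≤ n) (hG : Nat.card G = p ^ n) (hcl : γ (n - 2) ≠ ⊥) {k : ℕ} (hk : 1 ≤ k)
    {w : G} (hw : w ∈ γ k) (hw' : w ∉ γ (k + 1)) {g : G} :
    g ∈ layerCent G k ↔ ⁅w, g⁆ ∈ γ (k + 2) := by
  refine ⟨fun h => mem_layerCent.mp h w hw, fun h => ?_⟩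
  let π := QuotientGroup.mk' (γ (k + 2))
  refine mem_comap.mpr (mem_centralizer_iff.mpr ?_)
  rintro _ ⟨v, hv, rfl⟩
  obtain ⟨a, ha, b, hb, rfl⟩ := mem_sup_of_normal_right.mp ((zpowers_sup_eq hn hG hcl hk hw hw').ge hv)
  obtain ⟨m, rfl⟩ := mem_zpowers_iff.mp ha
  have h1 : Commute (π w) (π g) := by
    show _ = _
    rw [← commutatorElement_eq_one_iff_mul_comm, ← map_commutatorElement]
    exact (QuotientGroup.eq_one_iff _).mpr h
  have h2 : Commute (π b) (π g) := by
    show _ = _
    rw [← commutatorElement_eq_one_iff_mul_comm, ← map_commutatorElement]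
    exact (QuotientGroup.eq_one_iff _).mpr (lcs_succ_mem hb g)
  rw [map_mul, map_zpow]
  exact ((h1.zpow_left m).mul_left h2).eq

theorem layerCent_ne_top (hn : 3 ≤ n) (hG : Nat.card G = p ^ n) (hcl : γ (n - 2) ≠ ⊥) {k : ℕ}
    (hkn : k + 1 ≤ n - 2) : layerCent G k ≠ ⊤ := fun h => by
  refine (lcs_succ_lt hn hG hcl hkn).not_ge ?_
  rw [Subgroup.lowerCentralSeries_succ (⊤ : Subgroup G) k, Subgroup.commutator_le]
  exact fun w hw g _ => mem_layerCent.mp (h ▸ mem_top g) w hw

theorem index_layerCent (hn : 3 ≤ n) (hG : Nat.card G = p ^ n) (hcl : γ (n - 2) ≠ ⊥) {k : ℕ} (hk : 1 ≤ k)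
    (hkn : k + 1 ≤ n - 2) : (layerCent G k).index = p := by
  have hp := (Fact.out : p.Prime)
  obtain ⟨w, hw, hw'⟩ := exists_layer_gen hn hG hcl (by omega : k ≤ n - 2)
  let π := QuotientGroup.mk' (γ (k + 2))
  have hcard : Nat.card ((γ (k + 1)).map π) = p := by
    have h1 : Nat.card ((γ (k + 1)).map π) = (γ (k + 2)).relIndex (γ (k + 1)) := by
      rw [← Subgroup.relIndex_ker, QuotientGroup.ker_mk']
    have h2 := relIndex_mul_relIndex ⊥ (γ (k + 2)) (γ (k + 1)) bot_le
      (Subgroup.lowerCentralSeries_antitone (⊤ : Subgroup G) (Nat.le_succ _))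
    rw [relIndex_bot_left, relIndex_bot_left, card_lcs hn hG hcl (by omega), card_lcs hn hG hcl (by omega),
      show n - 1 - (k + 1) = n - 1 - (k + 2) + 1 by omega, pow_succ] at h2
    rw [h1]
    exact Nat.eq_of_mul_eq_mul_left (pow_pos hp.pos _) h2
  let f : G ⧸ layerCent G k → (γ (k + 1)).map π :=
    Quotient.lift (fun g => (⟨π ⁅w, g⁆, mem_map_of_mem π (lcs_succ_mem hw g)⟩ : (γ (k + 1)).map π)) fun a b hab => by
      have h0 : ⁅w, a⁻¹ * b⁆ ∈ γ (k + 2) := mem_layerCent.mp (QuotientGroup.leftRel_apply.mp hab) w hw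
      refine Subtype.ext (QuotientGroup.eq.mpr ?_)
      have h1 : (⁅w, a⁆)⁻¹ * ⁅w, b⁆ = a * ⁅w, a⁻¹ * b⁆ * a⁻¹ := by simp only [commutatorElement_def]; group
      rw [h1]
      exact (inferInstance : (γ (k + 2)).Normal).conj_mem _ h0 a
  have hle : (layerCent G k).index ≤ p := by
    rw [← hcard, Subgroup.index_eq_card]
    refine Nat.card_le_card_of_injective f fun a b => ?_
    refine Quotient.inductionOn₂ a b fun a b h => Quotient.sound (QuotientGroup.leftRel_apply.mpr ?_)
    have h' : π ⁅w, a⁆ = π ⁅w, b⁆ := congrArg Subtype.val h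
    have h0 := QuotientGroup.eq.mp h'
    rw [show (⁅w, a⁆)⁻¹ * ⁅w, b⁆ = a * ⁅w, a⁻¹ * b⁆ * a⁻¹ by simp only [commutatorElement_def]; group] at h0
    refine (mem_layerCent_iff_gen hn hG hcl hk hw hw').mpr ?_
    have h2 := (inferInstance : (γ (k + 2)).Normal).conj_mem _ h0 a⁻¹
    rwa [show a⁻¹ * (a * ⁅w, a⁻¹ * b⁆ * a⁻¹) * a⁻¹⁻¹ = ⁅w, a⁻¹ * b⁆ by group] at h2
  obtain ⟨i, hi⟩ := PGroup.index_eq_pow (IsPGroup.of_card hG) (layerCent G k)
  have hne : i ≠ 0 := fun h0 => layerCent_ne_top hn hG hcl hkn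
    (Subgroup.index_eq_one.mp (by rw [hi, h0, pow_zero]))
  have h1 : i ≤ 1 := (Nat.pow_le_pow_iff_right hp.one_lt).mp (by rw [← hi, pow_one]; exact hle)
  rw [hi, show i = 1 by omega, pow_one]

/-- With a uniform element the two-step centralisers have period `p - 1`. -/
theorem layerCent_periodic (hn : 3 ≤ n) (hG : Nat.card G = p ^ n) (hcl : γ (n - 2) ≠ ⊥) {x : G}
    (hx : x ^ p ∈ center G) (hC : Nat.card (centralizer {x}) = p ^ 2) {j : ℕ} (hj : 1 ≤ j)
    (hjn : j + (p - 1) + 1 ≤ n - 2) : layerCent G (j + (p - 1)) = layerCent G j := by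
  have hp2 := (Fact.out : p.Prime).two_le
  suffices h : layerCent G j ≤ layerCent G (j + (p - 1)) by
    symm
    refine Subgroup.eq_of_le_of_card_ge h ?_
    have h1 := (layerCent G j).card_mul_index
    have h2 := (layerCent G (j + (p - 1))).card_mul_index
    rw [index_layerCent hn hG hcl hj (by omega)] at h1
    rw [index_layerCent hn hG hcl (by omega) (by omega), ← h1] at h2
    exact (Nat.eq_of_mul_eq_mul_right (by omega) h2).le
  intro g hg
  obtain ⟨w, hw, hw'⟩ := exists_layer_gen hn hG hcl (by omega : j ≤ n - 2)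
  have hwp : w ^ p ∈ γ (j + (p - 1)) := by
    rw [show j + (p - 1) = j + p - 1 by omega]; exact pow_mem_shift hn hG hcl hx hC n j hj (by omega) w hw
  have hwp' : w ^ p ∉ γ (j + (p - 1) + 1) := by
    rw [show j + (p - 1) + 1 = j + p by omega]; exact pow_not_mem_shift hn hG hcl hx hC hj (by omega) hw hw'
  refine (mem_layerCent_iff_gen hn hG hcl (by omega) hwp hwp').mpr ?_
  set e := ⁅g, w⁆ with he
  have hd : e ∈ γ (j + 2) := by
    rw [he, ← commutatorElement_inv]; exact inv_mem (mem_layerCent.mp hg w hw)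
  set P := closure (insert w (γ (j + 2) : Set G)) with hPdef
  have hP1 : ⁅P, P⁆ ≤ γ (j + 3) := by
    refine commutator_closure_le _ _ _ ?_
    rintro a ha b hb
    rcases Set.mem_insert_iff.mp ha with rfl | ha
    · rcases Set.mem_insert_iff.mp hb with rfl | hb
      · rw [commutatorElement_self]; exact one_mem _
      · rw [← commutatorElement_inv]; exact inv_mem (lcs_succ_mem hb _)
    · exact lcs_succ_mem ha _
  have hPk : ∀ k, 1 ≤ k → P.lowerCentralSeries k ≤ γ (j + 2 + k) := by
    intro k hk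
    induction k, hk using Nat.le_induction with
    | base => rwa [show 1 = 0 + 1 from rfl, Subgroup.lowerCentralSeries_succ, Subgroup.lowerCentralSeries_zero]
    | succ k hk ihk =>
      rw [Subgroup.lowerCentralSeries_succ, ← Nat.add_assoc, Subgroup.lowerCentralSeries_succ]
      exact Subgroup.commutator_mono ihk le_top
  have hL : ∀ z ∈ γ (j + 2), z ^ p ∈ γ (j + (p - 1) + 2) := fun z hz => by
    have h := pow_mem_shift hn hG hcl hx hC n (j + 2) (by omega) (by omega) z hz
    rwa [show j + 2 + p - 1 = j + (p - 1) + 2 by omega] at h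
  have key := mul_pow_congr P (γ (j + (p - 1) + 2))
    ((hPk (p - 1) (by omega)).trans (le_of_eq (by rw [show j + 2 + (p - 1) = j + (p - 1) + 2 by omega])))
    (fun z hz => hL z (Subgroup.lowerCentralSeries_antitone (⊤ : Subgroup G) (Nat.le_succ _) (hP1 hz)))
    (subset_closure (Set.mem_insert_of_mem w hd)) (subset_closure (Set.mem_insert w _))
  have hconj : (e * w) ^ p = g * w ^ p * g⁻¹ := by
    rw [← conj_pow, he, commutatorElement_def, inv_mul_cancel_right]
  rw [hconj, show QuotientGroup.mk' (γ (j + (p - 1) + 2)) (e ^ p) = 1 from (QuotientGroup.eq_one_iff _).mpr (hL e hd),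
    one_mul] at key
  have h3 := QuotientGroup.eq.mp key.symm
  have h4 : ⁅w ^ p, g⁆ = w ^ p * ((w ^ p)⁻¹ * (g * w ^ p * g⁻¹))⁻¹ * (w ^ p)⁻¹ := by
    simp only [commutatorElement_def]; group
  rw [h4]
  exact (inferInstance : (γ (j + (p - 1) + 2)).Normal).conj_mem _ (inv_mem h3) (w ^ p)

/-- `C(γ 1/γ 3) = C(γ 2/γ 4)`. -/
theorem layerCent_one_eq_two (hn : 3 ≤ n) (hG : Nat.card G = p ^ n) (hcl : γ (n - 2) ≠ ⊥) (h : 3 ≤ n - 2) :
    layerCent G 1 = layerCent G 2 := by
  suffices hle : layerCent G 1 ≤ layerCent G 2 by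
    refine Subgroup.eq_of_le_of_card_ge hle ?_
    have h1 := (layerCent G 1).card_mul_index
    have h2 := (layerCent G 2).card_mul_index
    rw [index_layerCent hn hG hcl le_rfl (by omega)] at h1
    rw [index_layerCent hn hG hcl (by omega) (by omega), ← h1] at h2
    exact (Nat.eq_of_mul_eq_mul_right (Fact.out : p.Prime).pos h2).le
  intro g hg
  refine mem_layerCent.mpr ?_
  obtain ⟨u, hu, hu'⟩ := exists_layer_gen hn hG hcl (i := 1) (by omega)
  have heq := zpowers_sup_eq hn hG hcl le_rfl hu hu'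
  have h11 : ⁅γ 1, γ 1⁆ ≤ γ 4 := by
    have hgen : γ 1 = closure (insert u (γ 2 : Set G)) := by
      rw [← heq, Set.insert_eq, Subgroup.closure_union, ← zpowers_eq_closure, closure_eq]
    rw [hgen]
    refine commutator_closure_le _ _ _ ?_
    rintro a ha b hb
    rcases Set.mem_insert_iff.mp ha with ha' | ha'
    · rcases Set.mem_insert_iff.mp hb with hb' | hb'
      · rw [ha', hb', commutatorElement_self]; exact one_mem _
      · have h' := lcs_comm_mem hu hb'
        rw [ha']; exact h'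
    · rcases Set.mem_insert_iff.mp hb with hb' | hb'
      · have h' := lcs_comm_mem ha' hu
        rw [hb']; exact h'
      · have h' := lcs_comm_mem ha' hb'
        exact Subgroup.lowerCentralSeries_antitone (⊤ : Subgroup G) (by omega : 4 ≤ 2 + 2 + 1) h'
  -- three subgroups, modulo `γ 4`
  let π := QuotientGroup.mk' (γ 4)
  have key : ∀ {A B : Subgroup G}, ⁅A, B⁆ ≤ γ 4 → ⁅A.map π, B.map π⁆ = ⊥ := fun h => by
    rw [← Subgroup.map_commutator, Subgroup.map_eq_bot_iff, QuotientGroup.ker_mk']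
    exact h
  set A := zpowers g
  have hA1 : ⁅A, γ 1⁆ ≤ γ 3 := by
    rw [show A = closure ({g} : Set G) from zpowers_eq_closure g, ← closure_eq (γ 1)]
    refine commutator_closure_le _ _ _ ?_
    rintro a rfl b hb
    rw [← commutatorElement_inv]
    exact inv_mem (mem_layerCent.mp hg b hb)
  have e1 : ⁅⁅A.map π, (γ 1).map π⁆, (⊤ : Subgroup G).map π⁆ = ⊥ := by
    rw [← Subgroup.map_commutator, key]
    exact (Subgroup.commutator_mono hA1 le_rfl).trans (by rw [← Subgroup.lowerCentralSeries_succ])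
  have e2 : ⁅⁅(⊤ : Subgroup G).map π, A.map π⁆, (γ 1).map π⁆ = ⊥ := by
    rw [← Subgroup.map_commutator, key]
    refine (Subgroup.commutator_mono ?_ le_rfl).trans h11
    rw [Subgroup.top_lowerCentralSeries_one, _root_.commutator_def]
    exact Subgroup.commutator_mono le_rfl le_top
  have e3 := Subgroup.commutator_commutator_eq_bot_of_rotate (H₁ := (γ 1).map π) (H₂ := (⊤ : Subgroup G).map π)
    (H₃ := A.map π) e2 e1
  rw [← Subgroup.map_commutator, ← Subgroup.map_commutator, Subgroup.map_eq_bot_iff, QuotientGroup.ker_mk',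
    ← Subgroup.lowerCentralSeries_succ] at e3
  exact fun w hw => e3 (commutator_mem_commutator hw (mem_zpowers g))

theorem pow_prime_mem_lcs_one (hn : 3 ≤ n) (hG : Nat.card G = p ^ n) (hcl : γ (n - 2) ≠ ⊥) (x : G) :
    x ^ p ∈ γ 1 := by
  have h : frattini G = commutator G := PGroup.frattini_eq_commutator_of_index_sq (IsPGroup.of_card hG)
    (PGroup.not_cyclic_of_lcs_ne_bot (by omega : 1 ≤ n - 2) hcl)
    (PGroup.index_commutator_of_maximal hn hG (class_eq hn hG hcl))
  rw [Subgroup.top_lowerCentralSeries_one, ← h]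
  exact PGroup.pow_mem_frattini (IsPGroup.of_card hG) x

theorem closure_pair_eq_top (hn : 3 ≤ n) (hG : Nat.card G = p ^ n) (hcl : γ (n - 2) ≠ ⊥) {x g : G}
    (hx1 : x ∉ γ 1) (hgx : g ∉ zpowers x ⊔ γ 1) : closure ({x, g} : Set G) = ⊤ := by
  have hgen : closure ({x, g} : Set G) ⊔ γ 1 = ⊤ := by
    have hlt1 : γ 1 < zpowers x ⊔ γ 1 := right_lt_sup.mpr fun h => hx1 (h (mem_zpowers x))
    have hsup : closure ({x, g} : Set G) ⊔ γ 1 = zpowers x ⊔ zpowers g ⊔ γ 1 := by
      rw [Set.insert_eq, Subgroup.closure_union, ← zpowers_eq_closure, ← zpowers_eq_closure]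
    have hlt2 : zpowers x ⊔ γ 1 < closure ({x, g} : Set G) ⊔ γ 1 := by
      rw [hsup]
      exact SetLike.lt_iff_le_and_exists.mpr ⟨sup_le (le_sup_left.trans le_sup_left) le_sup_right, g,
        mem_sup_left (mem_sup_right (mem_zpowers g)), hgx⟩
    refine eq_of_le_of_card_ge le_top ?_
    have h1 := PGroup.mul_card_le_card (IsPGroup.of_card hG) hlt1
    have h2 := PGroup.mul_card_le_card (IsPGroup.of_card hG) hlt2
    rw [card_lcs hn hG hcl le_rfl] at h1
    rw [card_top, hG]
    calc p ^ n = p * (p * p ^ (n - 1 - 1)) := by rw [← pow_succ', ← pow_succ']; congr 1; omega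
      _ ≤ p * Nat.card ↥(zpowers x ⊔ γ 1) := Nat.mul_le_mul_left p h1
      _ ≤ _ := h2
  exact PGroup.closure_eq_top_of_sup_frattini (top_le_iff.mp
    (hgen.ge.trans (sup_le_sup le_rfl (by
      rw [Subgroup.top_lowerCentralSeries_one]; exact PGroup.commutator_le_frattini (IsPGroup.of_card hG)))))

/-- An element outside `γ 1` and every two-step centraliser is uniform. -/
theorem uniform_of_not_mem (hn : 3 ≤ n) (hG : Nat.card G = p ^ n) (hcl : γ (n - 2) ≠ ⊥) {x : G}
    (hx1 : x ∉ γ 1) (hD : ∀ k, 1 ≤ k → k + 1 ≤ n - 2 → x ∉ layerCent G k) :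
    Nat.card (centralizer ({x} : Set G)) = p ^ 2 ∧ x ^ p ∈ center G := by
  have hp := (Fact.out : p.Prime)
  set C := centralizer ({x} : Set G) with hCdef
  -- centralisers meet `γ 1` in the last layer
  have hinf : ∀ d k, 1 ≤ k → n - 2 ≤ k + d → C ⊓ γ k ≤ γ (n - 2) := by
    intro d
    induction d with
    | zero => exact fun k _ hk => inf_le_right.trans (Subgroup.lowerCentralSeries_antitone (⊤ : Subgroup G) hk)
    | succ d ih =>
      intro k hk hkd g hg
      obtain ⟨hgC, hgk⟩ := mem_inf.mp hg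
      by_cases hkn : n - 2 ≤ k
      · exact Subgroup.lowerCentralSeries_antitone (⊤ : Subgroup G) hkn hgk
      by_cases hg' : g ∈ γ (k + 1)
      · exact ih (k + 1) (by omega) (by omega) (mem_inf.mpr ⟨hgC, hg'⟩)
      exfalso
      refine hD k hk (by omega) ((mem_layerCent_iff_gen hn hG hcl hk hgk hg').mpr ?_)
      rw [commutatorElement_eq_one_iff_mul_comm.mpr (mem_centralizer_singleton_iff.mp hgC)]
      exact one_mem _
  have hzc : γ (n - 2) ≤ center G := by
    intro z hz
    refine mem_center_iff.mpr fun g => (commutatorElement_eq_one_iff_mul_comm.mp ?_).symm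
    have h1 := lcs_succ_mem hz g
    rw [lcs_high hn hG (by omega : n - 1 ≤ n - 2 + 1), mem_bot] at h1
    exact h1
  have hC1 : C ⊓ γ 1 = γ (n - 2) := le_antisymm (hinf n 1 le_rfl (by omega))
    (le_inf (hzc.trans (center_le_centralizer _)) (Subgroup.lowerCentralSeries_antitone (⊤ : Subgroup G) (by omega)))
  have hxp : x ^ p ∈ γ (n - 2) := hC1.le (mem_inf.mpr
    ⟨pow_mem (mem_centralizer_singleton_iff.mpr rfl) p, pow_prime_mem_lcs_one hn hG hcl x⟩)
  refine ⟨?_, hzc hxp⟩
  -- the image of `C` in `G / γ 1` is generated by that of `x`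
  have hCle : C ≤ zpowers x ⊔ γ 1 := by
    intro g hg
    by_contra hgx
    have htop := closure_pair_eq_top hn hG hcl hx1 hgx
    refine hcl (le_bot_iff.mp ((Subgroup.lowerCentralSeries_antitone (⊤ : Subgroup G) (by omega : 1 ≤ n - 2)).trans ?_))
    rw [Subgroup.top_lowerCentralSeries_one, commutator_def, ← htop]
    refine commutator_closure_le _ _ _ ?_
    have hcomm : x * g = g * x := (mem_centralizer_singleton_iff.mp hg).symm
    rintro a (rfl | rfl) b (rfl | rfl) <;> rw [mem_bot, commutatorElement_eq_one_iff_mul_comm]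
    exacts [hcomm, hcomm.symm]
  have hrel : (γ 1).relIndex C = p := by
    have h1 : (γ 1).relIndex C ≤ p := by
      refine (Subgroup.relIndex_le_of_le_right (H := γ 1) hCle Subgroup.index_ne_zero_of_finite).trans ?_
      rw [Subgroup.relIndex_sup_right]
      refine Nat.le_of_dvd hp.pos ?_
      rw [← QuotientGroup.ker_mk' (γ 1), Subgroup.relIndex_ker, MonoidHom.map_zpowers, Nat.card_zpowers]
      exact orderOf_dvd_of_pow_eq_one (by
        rw [← map_pow]; exact (QuotientGroup.eq_one_iff _).mpr (pow_prime_mem_lcs_one hn hG hcl x))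
    have h2 : (γ 1).relIndex C ≠ 1 := fun h => hx1 (Subgroup.relIndex_eq_one.mp h (mem_centralizer_singleton_iff.mpr rfl))
    obtain ⟨i, hi⟩ := ((IsPGroup.of_card hG).to_subgroup C).index ((γ 1).subgroupOf C)
    have hi' : (γ 1).relIndex C = p ^ i := hi
    have h3 : i ≤ 1 := (Nat.pow_le_pow_iff_right hp.one_lt).mp (by rw [← hi', pow_one]; exact h1)
    have h4 : i ≠ 0 := fun h0 => h2 (by rw [hi', h0, pow_zero])
    rw [hi', show i = 1 by omega, pow_one]
  have h := relIndex_mul_relIndex ⊥ (C ⊓ γ 1) C bot_le inf_le_left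
  rw [relIndex_bot_left, relIndex_bot_left, inf_relIndex_left, hrel, hC1, card_lcs hn hG hcl (by omega : 1 ≤ n - 2),
    show n - 1 - (n - 2) = 1 by omega, pow_one] at h
  rw [← h, pow_two]

omit [Finite G] in
theorem map_lcs {H : Type u} [Group H] (f : G →* H) (hf : Function.Surjective f) (i : ℕ) :
    (γ i).map f = (⊤ : Subgroup H).lowerCentralSeries i := by
  rw [Subgroup.map_lowerCentralSeries, Subgroup.map_top_of_surjective f hf]

omit [Finite G] in
/-- Two-step centralisers of a quotient by a deeper term. -/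
theorem mem_layerCent_quotient (N : Subgroup G) [N.Normal] {k : ℕ} (hN : N ≤ γ (k + 2)) {g : G} :
    g ∈ layerCent G k ↔ QuotientGroup.mk' N g ∈ layerCent (G ⧸ N) k := by
  have hs := QuotientGroup.mk'_surjective N
  rw [mem_layerCent, mem_layerCent, ← map_lcs _ hs k, ← map_lcs _ hs (k + 2)]
  constructor
  · rintro h _ ⟨w, hw, rfl⟩
    rw [← map_commutatorElement]
    exact mem_map_of_mem _ (h w hw)
  · intro h w hw
    have h1 := h _ (mem_map_of_mem _ hw)
    rw [← map_commutatorElement, ← mem_comap, comap_map_eq, QuotientGroup.ker_mk',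
      sup_eq_left.mpr hN] at h1
    exact h1

omit [Finite G] in
/-- Every group of maximal class has a uniform element. -/
theorem exists_uniform_aux : ∀ n, ∀ (G : Type u) [Group G] [Finite G], 3 ≤ n → Nat.card G = p ^ n →
    (⊤ : Subgroup G).lowerCentralSeries (n - 2) ≠ ⊥ →
    ∃ x : G, Nat.card (centralizer ({x} : Set G)) = p ^ 2 ∧ x ^ p ∈ center G := by
  intro n
  induction n using Nat.strong_induction_on with
  | _ n ih =>
    intro G _ _ hn hG hcl
    classical
    have := Fintype.ofFinite G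
    have hp := (Fact.out : p.Prime)
    -- few two-step centralisers suffice
    have hper : ∀ k, 1 ≤ k → k + 4 ≤ n → p ≤ k → layerCent G k = layerCent G (k - (p - 1)) := by
      intro k hk hkn hpk
      let N := (⊤ : Subgroup G).lowerCentralSeries (n - 2)
      have hNle : ∀ i, i ≤ k → N ≤ (⊤ : Subgroup G).lowerCentralSeries (i + 2) := fun i hi =>
        Subgroup.lowerCentralSeries_antitone (⊤ : Subgroup G) (by omega)
      have hcard : Nat.card (G ⧸ N) = p ^ (n - 1) := by
        have h := Subgroup.card_mul_index N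
        rw [Subgroup.index_eq_card, card_lcs hn hG hcl (by omega : 1 ≤ n - 2), hG,
          show n - 1 - (n - 2) = 1 by omega, pow_one] at h
        rw [show p ^ n = p * p ^ (n - 1) by rw [← pow_succ']; congr 1; omega] at h
        exact Nat.eq_of_mul_eq_mul_left hp.pos h
      have hcl' : (⊤ : Subgroup (G ⧸ N)).lowerCentralSeries (n - 1 - 2) ≠ ⊥ := by
        rw [← map_lcs (QuotientGroup.mk' N) (QuotientGroup.mk'_surjective N), Ne, Subgroup.map_eq_bot_iff,
          QuotientGroup.ker_mk']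
        have h := lcs_succ_lt hn hG hcl (i := n - 1 - 2) (by omega)
        rw [show n - 1 - 2 + 1 = n - 2 by omega] at h
        exact h.not_ge
      obtain ⟨x, hC, hx⟩ := ih (n - 1) (by omega) (G ⧸ N) (by omega) hcard hcl'
      have heq := layerCent_periodic (by omega) hcard hcl' hx hC (j := k - (p - 1)) (by omega) (by omega)
      rw [show k - (p - 1) + (p - 1) = k by omega] at heq
      ext g
      rw [mem_layerCent_quotient N (hNle k le_rfl), mem_layerCent_quotient N (hNle _ (by omega)), heq]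
    let K : Finset ℕ := (Finset.Icc 1 (p - 1) ∪ {n - 3}).filter fun k => 1 ≤ k ∧ k + 1 ≤ n - 2
    obtain ⟨x, hx1, hxK⟩ : ∃ x : G, x ∉ (⊤ : Subgroup G).lowerCentralSeries 1 ∧
        ∀ k ∈ K, x ∉ layerCent G k := by
      by_contra hcon
      push Not at hcon
      have hK : K.card ≤ p := (Finset.card_filter_le _ _).trans ((Finset.card_union_le _ _).trans (by
        rw [Nat.card_Icc, Finset.card_singleton]; have := hp.two_le; omega))
      rcases K.eq_empty_or_nonempty with h0 | ⟨k₀, hk₀⟩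
      · refine (lcs_succ_lt hn hG hcl (i := 0) (by omega)).not_ge ?_
        intro g _
        by_contra hg
        obtain ⟨k, hk, -⟩ := hcon g hg
        rw [h0] at hk
        exact Finset.notMem_empty k hk
      have hsub : (Finset.univ : Finset G).erase 1 ⊆
          K.biUnion fun k => ((Finset.univ : Finset G).filter (· ∈ layerCent G k)).erase 1 := by
        intro g hg
        have hg1 := (Finset.mem_erase.mp hg).1
        by_cases hg' : g ∈ (⊤ : Subgroup G).lowerCentralSeries 1
        · exact Finset.mem_biUnion.mpr ⟨k₀, hk₀, Finset.mem_erase.mpr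
            ⟨hg1, Finset.mem_filter.mpr ⟨Finset.mem_univ g, lcs_one_le_layerCent k₀ hg'⟩⟩⟩
        · obtain ⟨k, hk, hgk⟩ := hcon g hg'
          exact Finset.mem_biUnion.mpr
            ⟨k, hk, Finset.mem_erase.mpr ⟨hg1, Finset.mem_filter.mpr ⟨Finset.mem_univ g, hgk⟩⟩⟩
      have h1 := (Finset.card_le_card hsub).trans (Finset.card_biUnion_le_card_mul _ _ (p ^ (n - 1) - 1) (fun k hk => by
        obtain ⟨-, hk1, hk2⟩ := Finset.mem_filter.mp hk
        rw [Finset.card_erase_of_mem (by simp)]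
        refine Nat.sub_le_sub_right (le_of_eq ?_) 1
        rw [← Fintype.card_subtype, ← Nat.card_eq_fintype_card]
        have h := (layerCent G k).card_mul_index
        rw [index_layerCent hn hG hcl hk1 hk2, hG,
          show p ^ n = p ^ (n - 1) * p by rw [← pow_succ]; congr 1; omega] at h
        exact Nat.eq_of_mul_eq_mul_right hp.pos h))
      rw [Finset.card_erase_of_mem (Finset.mem_univ 1), Finset.card_univ, ← Nat.card_eq_fintype_card, hG] at h1
      have h2 : K.card * (p ^ (n - 1) - 1) ≤ p * (p ^ (n - 1) - 1) := Nat.mul_le_mul_right _ hK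
      rw [show p * (p ^ (n - 1) - 1) = p ^ n - p by rw [Nat.mul_sub, mul_one, ← pow_succ', show n - 1 + 1 = n by omega]] at h2
      have h3 : p ≤ p ^ n := Nat.le_self_pow (by omega) p
      have := hp.two_le
      omega
    refine ⟨x, uniform_of_not_mem hn hG hcl hx1 ?_⟩
    intro k
    induction k using Nat.strong_induction_on with
    | _ k ihk =>
      intro hk hkn
      by_cases hkK : k ≤ p - 1 ∨ k = n - 3
      · exact hxK k (Finset.mem_filter.mpr ⟨by
          rcases hkK with h | h
          · exact Finset.mem_union_left _ (Finset.mem_Icc.mpr ⟨hk, h⟩)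
          · exact Finset.mem_union_right _ (Finset.mem_singleton.mpr h), hk, hkn⟩)
      · push Not at hkK
        rw [hper k hk (by omega) (by omega)]
        exact ihk _ (by have := hp.two_le; omega) (by omega) (by omega)

theorem exists_uniform (hn : 3 ≤ n) (hG : Nat.card G = p ^ n) (hcl : γ (n - 2) ≠ ⊥) :
    ∃ x : G, Nat.card (centralizer ({x} : Set G)) = p ^ 2 ∧ x ^ p ∈ center G :=
  exists_uniform_aux n G hn hG hcl

end Cfsg.Agent.MaxClass
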